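import Cfsg.Prelude.Def_LieExceptional

/-!
Abstract (B,N)-pairs: Bruhat cells indexed by the Weyl group, length function, exchange condition,
subgroups containing `B`.
-/

set_option autoImplicit false

namespace CfsgLib.BN

open scoped Pointwise

variable {G : Type*} [Group G] (P : Cfsg.BNPair G)

theorem conj_mem' {n : G} (hn : n ∈ P.N) {t : G} (ht : t ∈ P.B ⊓ P.N) :
    n * t * n⁻¹ ∈ P.B ⊓ P.N :=
  ⟨P.conj_mem n hn t ht, P.N.mul_mem (P.N.mul_mem hn ht.2) (P.N.inv_mem hn)⟩

instance torus_normal : ((P.B ⊓ P.N).subgroupOf P.N).Normal :=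
  ⟨fun _ ht n => conj_mem' P n.2 ht⟩

/-- The Weyl group `N / (B ⊓ N)`. -/
abbrev Weyl := ↥P.N ⧸ (P.B ⊓ P.N).subgroupOf P.N

/-- Class of an element of `N`. -/
def cls (n : P.N) : Weyl P := QuotientGroup.mk n

/-- The distinguished involution of `W` given by `s`. -/
def σ (s : P.S) : Weyl P := cls P ⟨s.1, P.subset s.2⟩

/-- Value of a word. -/
def wd (l : List P.S) : Weyl P := (l.map (σ P)).prod

@[simp] theorem wd_nil : wd P [] = 1 := rfl

@[simp] theorem wd_cons (s : P.S) (l : List P.S) : wd P (s :: l) = σ P s * wd P l := by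
  simp [wd]

@[simp] theorem wd_append (l l' : List P.S) : wd P (l ++ l') = wd P l * wd P l' := by
  simp [wd]

theorem cls_mul (a b : P.N) : cls P (a * b) = cls P a * cls P b := rfl

theorem cls_inv (a : P.N) : cls P a⁻¹ = (cls P a)⁻¹ := rfl

theorem cls_eq_iff {n m : P.N} : cls P n = cls P m ↔ (n : G)⁻¹ * m ∈ P.B := by
  rw [cls, cls, QuotientGroup.eq, Subgroup.mem_subgroupOf]
  constructor
  · exact fun h => h.1
  · exact fun h => ⟨h, P.N.mul_mem (P.N.inv_mem n.2) m.2⟩

theorem cls_eq_one_iff {n : P.N} : cls P n = 1 ↔ (n : G) ∈ P.B := by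
  rw [cls, QuotientGroup.eq_one_iff, Subgroup.mem_subgroupOf]
  exact ⟨fun h => h.1, fun h => ⟨h, n.2⟩⟩

theorem cls_surjective : Function.Surjective (cls P) := QuotientGroup.mk_surjective

theorem σ_mul_self (s : P.S) : σ P s * σ P s = 1 := by
  rw [σ, ← cls_mul, cls_eq_one_iff]
  exact P.sq_mem s.1 s.2

@[simp] theorem σ_inv (s : P.S) : (σ P s)⁻¹ = σ P s := inv_eq_of_mul_eq_one_right (σ_mul_self P s)

@[simp] theorem σ_mul_σ_mul (s : P.S) (q : Weyl P) : σ P s * (σ P s * q) = q := by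
  rw [← mul_assoc, σ_mul_self, one_mul]

theorem σ_injective : Function.Injective (σ P) := by
  intro s t h
  exact Subtype.ext (P.inj s.1 s.2 t.1 t.2 ((cls_eq_iff P).1 h))

theorem notMem_B {s : G} (hs : s ∈ P.S) : s ∉ P.B := by
  intro hsB
  refine P.conj_ne s hs ?_
  ext x
  constructor
  · rintro ⟨b, hb, rfl⟩
    exact P.B.mul_mem (P.B.mul_mem hsB hb) hsB
  · intro hx
    exact ⟨s⁻¹ * x * s⁻¹, P.B.mul_mem (P.B.mul_mem (P.B.inv_mem hsB) hx) (P.B.inv_mem hsB),
      by group⟩

theorem σ_ne_one (s : P.S) : σ P s ≠ 1 := fun h => notMem_B P s.2 ((cls_eq_one_iff P).1 h)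

/-- The Bruhat cell of an element of the Weyl group. -/
def cell (q : Weyl P) : Set G :=
  {g | ∃ n : P.N, cls P n = q ∧ ∃ a ∈ P.B, ∃ b ∈ P.B, g = a * n * b}

theorem mem_cell_cls {n : P.N} {g : G} :
    g ∈ cell P (cls P n) ↔ ∃ a ∈ P.B, ∃ b ∈ P.B, g = a * n * b := by
  constructor
  · rintro ⟨m, hm, a, ha, b, hb, rfl⟩
    refine ⟨a, ha, (n : G)⁻¹ * m * b, P.B.mul_mem ((cls_eq_iff P).1 hm.symm) hb, by group⟩
  · rintro ⟨a, ha, b, hb, rfl⟩
    exact ⟨n, rfl, a, ha, b, hb, rfl⟩

theorem cell_cls_eq (n : P.N) : cell P (cls P n) = DoubleCoset.doubleCoset (n : G) (P.B : Set G) P.B := by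
  ext g
  rw [mem_cell_cls, DoubleCoset.mem_doubleCoset]
  rfl

theorem self_mem_cell (n : P.N) : (n : G) ∈ cell P (cls P n) :=
  (mem_cell_cls P).2 ⟨1, P.B.one_mem, 1, P.B.one_mem, by simp⟩

theorem self_mem_cell_σ (s : P.S) : (s : G) ∈ cell P (σ P s) := self_mem_cell P _

theorem cell_one : cell P 1 = (P.B : Set G) := by
  ext g
  rw [show (1 : Weyl P) = cls P 1 from rfl, mem_cell_cls]
  constructor
  · rintro ⟨a, ha, b, hb, rfl⟩
    simpa using P.B.mul_mem ha hb
  · exact fun hg => ⟨g, hg, 1, P.B.one_mem, by simp⟩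

theorem B_mul_cell {b g : G} {q : Weyl P} (hb : b ∈ P.B) (hg : g ∈ cell P q) : b * g ∈ cell P q := by
  obtain ⟨n, hn, a, ha, c, hc, rfl⟩ := hg
  exact ⟨n, hn, b * a, P.B.mul_mem hb ha, c, hc, by group⟩

theorem cell_mul_B {b g : G} {q : Weyl P} (hb : b ∈ P.B) (hg : g ∈ cell P q) : g * b ∈ cell P q := by
  obtain ⟨n, hn, a, ha, c, hc, rfl⟩ := hg
  exact ⟨n, hn, a, ha, c * b, P.B.mul_mem hc hb, by group⟩

theorem inv_mem_cell {g : G} {q : Weyl P} (hg : g ∈ cell P q) : g⁻¹ ∈ cell P q⁻¹ := by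
  obtain ⟨n, rfl, a, ha, c, hc, rfl⟩ := hg
  refine ⟨n⁻¹, cls_inv P n, c⁻¹, P.B.inv_mem hc, a⁻¹, P.B.inv_mem ha, ?_⟩
  simp only [mul_inv_rev, mul_assoc, InvMemClass.coe_inv]

theorem cell_nonempty (q : Weyl P) : (cell P q).Nonempty := by
  obtain ⟨n, rfl⟩ := cls_surjective P q
  exact ⟨n, self_mem_cell P n⟩

/-- Every element of `cell (p * q)` is a product from `cell p` and `cell q`. -/
theorem exists_factor {p q : Weyl P} {g : G} (hg : g ∈ cell P (p * q)) :
    ∃ x ∈ cell P p, ∃ y ∈ cell P q, g = x * y := by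
  obtain ⟨n, rfl⟩ := cls_surjective P p
  obtain ⟨m, rfl⟩ := cls_surjective P q
  rw [← cls_mul, mem_cell_cls] at hg
  obtain ⟨a, ha, b, hb, rfl⟩ := hg
  exact ⟨a * n, B_mul_cell P ha (self_mem_cell P n), m * b, cell_mul_B P hb (self_mem_cell P m),
    by simp only [Subgroup.coe_mul, mul_assoc]⟩

/-- The multiplication axiom. -/
theorem σ_mul_cell (s : P.S) {q : Weyl P} {x y : G} (hx : x ∈ cell P (σ P s)) (hy : y ∈ cell P q) :
    x * y ∈ cell P (σ P s * q) ∨ x * y ∈ cell P q := by
  obtain ⟨a, ha, b, hb, rfl⟩ := (mem_cell_cls P).1 hx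
  obtain ⟨n, rfl, c, hc, d, hd, rfl⟩ := hy
  have e : a * (s : G) * b * (c * n * d) = a * ((s : G) * (b * c) * n) * d := by group
  rw [e]
  rcases P.mul_mem_union s.1 s.2 n.1 n.2 (b * c) (P.B.mul_mem hb hc) with h | h
  · left
    refine cell_mul_B P hd (B_mul_cell P ha ?_)
    rw [σ, ← cls_mul, cell_cls_eq]
    exact h
  · right
    refine cell_mul_B P hd (B_mul_cell P ha ?_)
    rw [cell_cls_eq]
    exact h

theorem cell_mul_σ (s : P.S) {q : Weyl P} {x y : G} (hy : y ∈ cell P q) (hx : x ∈ cell P (σ P s)) :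
    y * x ∈ cell P (q * σ P s) ∨ y * x ∈ cell P q := by
  have hx' : x⁻¹ ∈ cell P (σ P s) := by simpa using inv_mem_cell P hx
  rcases σ_mul_cell P s hx' (inv_mem_cell P hy) with h | h
  · left; simpa using inv_mem_cell P h
  · right; simpa using inv_mem_cell P h

/-- `C(s) C(s)` meets `C(s)`. -/
theorem exists_σ_mul_σ_mem (s : P.S) :
    ∃ x ∈ cell P (σ P s), ∃ y ∈ cell P (σ P s), x * y ∈ cell P (σ P s) := by
  by_contra hcon
  push Not at hcon
  have hB : ∀ b ∈ P.B, (s : G) * b * s ∈ P.B := by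
    intro b hb
    have h1 : (s : G) * b ∈ cell P (σ P s) := cell_mul_B P hb (self_mem_cell_σ P s)
    rcases σ_mul_cell P s h1 (self_mem_cell_σ P s) with h | h
    · rw [σ_mul_self, cell_one] at h
      exact h
    · exact absurd h (hcon _ h1 _ (self_mem_cell_σ P s))
  have hsq : (s : G) * s ∈ P.B := P.sq_mem s.1 s.2
  refine P.conj_ne s.1 s.2 ?_
  ext x
  constructor
  · rintro ⟨b, hb, rfl⟩
    exact hB b hb
  · intro hx
    refine ⟨(s : G)⁻¹ * x * (s : G)⁻¹, ?_, by group⟩
    have h2 := P.B.mul_mem (P.B.mul_mem (P.B.inv_mem hsq) (hB x hx)) (P.B.inv_mem hsq)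
    simpa [mul_assoc] using h2

theorem wd_reverse (l : List P.S) : wd P l.reverse = (wd P l)⁻¹ := by
  induction l with
  | nil => simp
  | cons s l ih => simp [ih]

theorem exists_word (q : Weyl P) : ∃ l : List P.S, wd P l = q := by
  have key : P.N ≤ ((Subgroup.closure (Set.range (σ P))).comap
      (QuotientGroup.mk' ((P.B ⊓ P.N).subgroupOf P.N))).map P.N.subtype := by
    conv_lhs => rw [← P.closure_sup]
    refine sup_le ((Subgroup.closure_le _).2 fun s hs => ?_) fun t ht => ?_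
    · exact ⟨⟨s, P.subset hs⟩, Subgroup.subset_closure ⟨⟨s, hs⟩, rfl⟩, rfl⟩
    · refine ⟨⟨t, ht.2⟩, ?_, rfl⟩
      show cls P ⟨t, ht.2⟩ ∈ Subgroup.closure (Set.range (σ P))
      rw [(cls_eq_one_iff P).2 ht.1]
      exact one_mem _
  obtain ⟨n, rfl⟩ := cls_surjective P q
  obtain ⟨m, hm, hmn⟩ := key n.2
  obtain rfl : m = n := Subtype.ext hmn
  change cls P m ∈ Subgroup.closure (Set.range (σ P)) at hm
  generalize cls P m = x at hm ⊢
  induction hm using Subgroup.closure_induction with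
  | mem x hx => obtain ⟨s, rfl⟩ := hx; exact ⟨[s], by simp⟩
  | one => exact ⟨[], rfl⟩
  | mul x y _ _ hx hy =>
    obtain ⟨l, rfl⟩ := hx; obtain ⟨l', rfl⟩ := hy; exact ⟨l ++ l', wd_append P l l'⟩
  | inv x _ hx =>
    obtain ⟨l, rfl⟩ := hx
    exact ⟨l.reverse, wd_reverse P l⟩

open Classical in
/-- The length in the distinguished involutions. -/
noncomputable def len (q : Weyl P) : ℕ :=
  Nat.find (p := fun k => ∃ l : List P.S, l.length = k ∧ wd P l = q)
    ⟨_, (exists_word P q).choose, rfl, (exists_word P q).choose_spec⟩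

theorem exists_reduced (q : Weyl P) : ∃ l : List P.S, l.length = len P q ∧ wd P l = q := by
  classical
  exact Nat.find_spec (p := fun k => ∃ l : List P.S, l.length = k ∧ wd P l = q)
    ⟨_, (exists_word P q).choose, rfl, (exists_word P q).choose_spec⟩

theorem len_le (l : List P.S) : len P (wd P l) ≤ l.length := by
  classical
  exact Nat.find_min' _ ⟨l, rfl, rfl⟩

theorem len_eq_zero {q : Weyl P} (h : len P q = 0) : q = 1 := by
  obtain ⟨l, hl, rfl⟩ := exists_reduced P q
  rw [h, List.length_eq_zero_iff] at hl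
  simp [hl]

theorem len_one : len P 1 = 0 := Nat.le_zero.1 (len_le P [])

theorem len_σ_mul_le (s : P.S) (q : Weyl P) : len P (σ P s * q) ≤ len P q + 1 := by
  obtain ⟨l, hl, rfl⟩ := exists_reduced P q
  rw [← wd_cons]
  exact (len_le P _).trans (by simp [hl])

theorem len_le_σ_mul (s : P.S) (q : Weyl P) : len P q ≤ len P (σ P s * q) + 1 := by
  simpa using len_σ_mul_le P s (σ P s * q)

theorem len_σ (s : P.S) : len P (σ P s) = 1 := by
  refine le_antisymm (by simpa using len_le P [s]) (Nat.one_le_iff_ne_zero.2 fun h => ?_)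
  exact σ_ne_one P s (len_eq_zero P h)

theorem exists_cons {q : Weyl P} (h : len P q ≠ 0) :
    ∃ (s : P.S) (p : Weyl P), q = σ P s * p ∧ len P p + 1 = len P q := by
  obtain ⟨l, hl, rfl⟩ := exists_reduced P q
  cases l with
  | nil => exact absurd hl.symm h
  | cons s t =>
    refine ⟨s, wd P t, wd_cons P s t, ?_⟩
    have h1 := len_le P t
    have h2 := len_σ_mul_le P s (wd P t)
    rw [← wd_cons] at h2
    simp only [List.length_cons] at hl
    omega

theorem exists_snoc {q : Weyl P} (h : len P q ≠ 0) :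
    ∃ (p : Weyl P) (s : P.S), q = p * σ P s ∧ len P p + 1 = len P q := by
  obtain ⟨l, hl, rfl⟩ := exists_reduced P q
  rcases List.eq_nil_or_concat l with rfl | ⟨t, s, rfl⟩
  · exact absurd hl.symm h
  · refine ⟨wd P t, s, by simp, ?_⟩
    have h1 := len_le P t
    obtain ⟨u, hu, hu'⟩ := exists_reduced P (wd P t)
    have h2 := len_le P (u ++ [s])
    simp only [List.concat_eq_append, List.length_append, List.length_cons, List.length_nil,
      wd_append, hu'] at hl h2 ⊢
    omega

theorem cell_unique {p q : Weyl P} {g : G} (hp : g ∈ cell P p) (hq : g ∈ cell P q) : p = q := by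
  suffices H : ∀ k (p q : Weyl P), len P p = k → k ≤ len P q → ∀ g, g ∈ cell P p → g ∈ cell P q → p = q by
    rcases le_total (len P p) (len P q) with h | h
    · exact H _ p q rfl h g hp hq
    · exact (H _ q p rfl h g hq hp).symm
  clear hp hq p q g
  intro k
  induction k with
  | zero =>
    intro p q hk _ g hp hq
    rw [len_eq_zero P hk, cell_one] at hp
    obtain ⟨n, rfl, a, ha, b, hb, rfl⟩ := hq
    rw [len_eq_zero P hk, eq_comm, cls_eq_one_iff]
    have h := P.B.mul_mem (P.B.mul_mem (P.B.inv_mem ha) hp) (P.B.inv_mem hb)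
    simpa [mul_assoc] using h
  | succ k ih =>
    intro p q hk hle g hp hq
    obtain ⟨s, p₁, rfl, hp₁⟩ := exists_cons P (q := p) (by omega)
    obtain ⟨x, hx, y, hy, rfl⟩ := exists_factor P hp
    have hx' : x⁻¹ ∈ cell P (σ P s) := by simpa using inv_mem_cell P hx
    have hq' := len_le_σ_mul P s q
    rcases σ_mul_cell P s hx' hq with h | h
    · rw [inv_mul_cancel_left] at h
      have := ih p₁ (σ P s * q) (by omega) (by omega) y hy h
      simp [this]
    · rw [inv_mul_cancel_left] at h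
      have := ih p₁ q (by omega) (by omega) y hy h
      subst this
      omega

theorem σ_mul_cell_of_le (s : P.S) : ∀ {q : Weyl P}, len P q ≤ len P (σ P s * q) →
    ∀ {x y : G}, x ∈ cell P (σ P s) → y ∈ cell P q → x * y ∈ cell P (σ P s * q) := by
  suffices H : ∀ k (q : Weyl P), len P q = k → k ≤ len P (σ P s * q) →
      ∀ {x y : G}, x ∈ cell P (σ P s) → y ∈ cell P q → x * y ∈ cell P (σ P s * q) from
    fun {q} h => H _ q rfl h
  intro k
  induction k with
  | zero =>
    intro q hq _ x y hx hy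
    rw [len_eq_zero P hq, cell_one] at hy
    rw [len_eq_zero P hq, mul_one]
    exact cell_mul_B P hy hx
  | succ k ih =>
    intro q hq hle x y hx hy
    rcases σ_mul_cell P s hx hy with h | h
    · exact h
    exfalso
    obtain ⟨p, r, rfl, hp⟩ := exists_snoc P (q := q) (by omega)
    obtain ⟨y₁, hy₁, y₂, hy₂, rfl⟩ := exists_factor P hy
    have hsp : k ≤ len P (σ P s * p) := by
      obtain ⟨u, hu, hu'⟩ := exists_reduced P (σ P s * p)
      have h2 := len_le P (u ++ [r])
      simp only [List.length_append, List.length_cons, List.length_nil, wd_append, hu'] at h2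
      simp only [wd_cons, wd_nil, mul_one, mul_assoc] at h2
      omega
    have h1 : x * y₁ ∈ cell P (σ P s * p) := ih p (by omega) hsp hx hy₁
    rw [← mul_assoc] at h
    rcases cell_mul_σ P r h1 hy₂ with h3 | h3
    · have e := cell_unique P h h3
      rw [mul_assoc] at e
      exact σ_ne_one P s (mul_eq_right.1 e.symm)
    · have e := cell_unique P h h3
      have : σ P s * (p * σ P r) = p := by rw [e, σ_mul_σ_mul]
      rw [this] at hle
      omega

theorem len_σ_mul_ne (s : P.S) (q : Weyl P) : len P (σ P s * q) ≠ len P q := by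
  intro h
  obtain ⟨x, hx, x', hx', hxx⟩ := exists_σ_mul_σ_mem P s
  obtain ⟨y, hy⟩ := cell_nonempty P q
  have h1 := σ_mul_cell_of_le P s h.ge hxx hy
  have h2 := σ_mul_cell_of_le P s h.ge hx' hy
  have h3 := σ_mul_cell_of_le P s (q := σ P s * q) (by simp [h]) hx h2
  rw [σ_mul_σ_mul, ← mul_assoc] at h3
  exact σ_ne_one P s (mul_eq_right.1 (cell_unique P h1 h3))

theorem len_σ_mul_cases (s : P.S) (q : Weyl P) :
    len P (σ P s * q) = len P q + 1 ∨ len P (σ P s * q) + 1 = len P q := by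
  have := len_σ_mul_le P s q
  have := len_le_σ_mul P s q
  have := len_σ_mul_ne P s q
  omega

theorem exists_σ_mul_mem_self (s : P.S) {q : Weyl P} (h : len P (σ P s * q) < len P q) :
    ∃ x ∈ cell P (σ P s), ∃ y ∈ cell P q, x * y ∈ cell P q := by
  obtain ⟨x, hx, x', hx', hxx⟩ := exists_σ_mul_σ_mem P s
  obtain ⟨z, hz⟩ := cell_nonempty P (σ P s * q)
  have h1 := σ_mul_cell_of_le P s (q := σ P s * q) (by rw [σ_mul_σ_mul]; omega) hxx hz
  have h2 := σ_mul_cell_of_le P s (q := σ P s * q) (by rw [σ_mul_σ_mul]; omega) hx' hz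
  rw [σ_mul_σ_mul] at h1 h2
  exact ⟨x, hx, x' * z, h2, by rwa [← mul_assoc]⟩

/-- A word is reduced when its length is the length of its value. -/
def Red (l : List P.S) : Prop := len P (wd P l) = l.length

theorem Red.of_append_left {l l' : List P.S} (h : Red P (l ++ l')) : Red P l := by
  refine le_antisymm (len_le P l) ?_
  obtain ⟨u, hu, hu'⟩ := exists_reduced P (wd P l)
  have := len_le P (u ++ l')
  simp only [Red, wd_append, List.length_append, hu'] at h this ⊢
  omega

theorem Red.of_append_right {l l' : List P.S} (h : Red P (l ++ l')) : Red P l' := by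
  refine le_antisymm (len_le P l') ?_
  obtain ⟨u, hu, hu'⟩ := exists_reduced P (wd P l')
  have := len_le P (l ++ u)
  simp only [Red, wd_append, List.length_append, hu'] at h this ⊢
  omega

theorem Red.tail {s : P.S} {l : List P.S} (h : Red P (s :: l)) : Red P l :=
  Red.of_append_right P (l := [s]) h

theorem red_eraseIdx {l : List P.S} (hl : Red P l) {s : P.S} {i : ℕ} (hi : i < l.length)
    (h : σ P s * wd P l = wd P (l.eraseIdx i)) : Red P (l.eraseIdx i) := by
  refine le_antisymm (len_le P _) ?_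
  have h1 := len_le_σ_mul P s (wd P l)
  rw [h] at h1
  have h2 : (l.eraseIdx i).length = l.length - 1 := by rw [List.length_eraseIdx]; simp [hi]
  simp only [Red] at hl
  omega

/-- The exchange condition. -/
theorem exchange (s : P.S) {l : List P.S} (hl : Red P l) (h : len P (σ P s * wd P l) < l.length) :
    ∃ i < l.length, σ P s * wd P l = wd P (l.eraseIdx i) := by
  induction l using List.reverseRecOn with
  | nil => simp at h
  | append_singleton l r ih =>
    have hl' : Red P l := Red.of_append_left P hl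
    by_cases h' : len P (σ P s * wd P l) < l.length
    · obtain ⟨i, hi, e⟩ := ih hl' h'
      refine ⟨i, by simp; omega, ?_⟩
      rw [List.eraseIdx_append_of_lt_length hi, wd_append, wd_append, ← mul_assoc, e]
    · refine ⟨l.length, by simp, ?_⟩
      rw [List.eraseIdx_append_of_length_le le_rfl]
      simp only [Nat.sub_self, List.eraseIdx_cons_zero, List.append_nil]
      simp only [Red] at hl hl'
      obtain ⟨x, hx, y, hy, hxy⟩ :=
        exists_σ_mul_mem_self P s (q := wd P (l ++ [r])) (by rw [hl]; exact h)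
      simp only [wd_append, wd_cons, wd_nil, mul_one] at hy hxy h ⊢
      obtain ⟨y₁, hy₁, y₂, hy₂, rfl⟩ := exists_factor P hy
      have h1 := σ_mul_cell_of_le P s (q := wd P l) (by omega) hx hy₁
      rw [← mul_assoc] at hxy
      rcases cell_mul_σ P r h1 hy₂ with h3 | h3
      · have e := cell_unique P hxy h3
        rw [mul_assoc] at e
        exact absurd (mul_eq_right.1 e.symm) (σ_ne_one P s)
      · rw [cell_unique P hxy h3, σ_mul_σ_mul]

/-- A word with letters in `J` can be shortened to a reduced one with letters in `J`. -/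
theorem exists_reduced_sub {J : Set G} : ∀ l : List P.S, (∀ s ∈ l, (s : G) ∈ J) →
    ∃ l' : List P.S, (∀ s ∈ l', (s : G) ∈ J) ∧ Red P l' ∧ wd P l' = wd P l := by
  intro l
  induction l with
  | nil => exact fun _ => ⟨[], by simp, len_one P, rfl⟩
  | cons s t ih =>
    intro hJ
    obtain ⟨t', ht', hred, he⟩ := ih fun x hx => hJ x (List.mem_cons_of_mem _ hx)
    have hred' : len P (wd P t') = t'.length := hred
    rcases len_σ_mul_cases P s (wd P t') with h | h
    · refine ⟨s :: t', ?_, ?_, by simp [he]⟩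
      · intro x hx
        rcases List.mem_cons.1 hx with rfl | hx
        · exact hJ _ List.mem_cons_self
        · exact ht' x hx
      · simp only [Red, wd_cons, h, List.length_cons, hred']
    · obtain ⟨i, hi, e⟩ := exchange P s hred (by omega)
      refine ⟨t'.eraseIdx i, fun x hx => ht' x (List.eraseIdx_subset hx),
        red_eraseIdx P hred hi e, ?_⟩
      rw [← e, wd_cons, he]

/-- The subgroup generated by `B` and `n B n⁻¹` contains all letters of a reduced word of `n`. -/
theorem letters_mem {M : Subgroup G} (hB : P.B ≤ M) : ∀ {l : List P.S} {n : P.N},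
    Red P l → wd P l = cls P n → (∀ b ∈ P.B, (n : G) * b * (n : G)⁻¹ ∈ M) →
      ∀ s ∈ l, (s : G) ∈ M := by
  intro l
  induction l with
  | nil => intro n _ _ _ s hs; simp at hs
  | cons s t ih =>
    intro n hred he hn
    have hs : (s : G) ∈ M := by
      have hlt : len P (σ P s * cls P n) < len P (cls P n) := by
        rw [← he]
        have h1 := len_le P t
        simp only [Red, List.length_cons] at hred
        rw [hred]
        simp only [wd_cons, σ_mul_σ_mul]
        omega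
      obtain ⟨x, hx, y, hy, hxy⟩ := exists_σ_mul_mem_self P s hlt
      obtain ⟨a, ha, b, hb, rfl⟩ := (mem_cell_cls P).1 hx
      obtain ⟨c, hc, d, hd, rfl⟩ := (mem_cell_cls P).1 hy
      obtain ⟨e, he', f, hf, h⟩ := (mem_cell_cls P).1 hxy
      have : (s : G) = a⁻¹ * e * ((n : G) * (f * d⁻¹) * (n : G)⁻¹) * (b * c)⁻¹ := by
        rw [eq_mul_inv_iff_mul_eq]
        calc (s : G) * (b * c) = a⁻¹ * (a * s * b * (c * n * d)) * (d⁻¹ * (n : G)⁻¹) := by group
          _ = _ := by rw [h]; group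
      rw [this]
      exact M.mul_mem (M.mul_mem (hB (P.B.mul_mem (P.B.inv_mem ha) he'))
        (hn _ (P.B.mul_mem hf (P.B.inv_mem hd)))) (hB (P.B.inv_mem (P.B.mul_mem hb hc)))
    have hrest : ∀ x ∈ t, (x : G) ∈ M := by
      refine ih (n := (⟨s.1, P.subset s.2⟩ : P.N)⁻¹ * n) (Red.tail P hred) ?_ ?_
      · rw [cls_mul, cls_inv, ← he]
        show wd P t = (σ P s)⁻¹ * wd P (s :: t)
        simp
      · intro b hb
        have e : (((⟨s.1, P.subset s.2⟩ : P.N)⁻¹ * n : P.N) : G) * b *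
            (((⟨s.1, P.subset s.2⟩ : P.N)⁻¹ * n : P.N) : G)⁻¹
            = (s : G)⁻¹ * ((n : G) * b * (n : G)⁻¹) * s := by
          simp [mul_assoc]
        rw [e]
        exact M.mul_mem (M.mul_mem (M.inv_mem hs) (hn b hb)) hs
    intro x hx
    rcases List.mem_cons.1 hx with rfl | hx
    · exact hs
    · exact hrest x hx

/-- Value of a word in `J`. -/
def InJ (J : Set G) (q : Weyl P) : Prop := ∃ l : List P.S, (∀ s ∈ l, (s : G) ∈ J) ∧ wd P l = q

theorem InJ.reduced {J : Set G} {q : Weyl P} (h : InJ P J q) :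
    ∃ l : List P.S, (∀ s ∈ l, (s : G) ∈ J) ∧ Red P l ∧ wd P l = q := by
  obtain ⟨l, hl, rfl⟩ := h
  exact exists_reduced_sub P l hl

theorem InJ.mul {J : Set G} {p q : Weyl P} (hp : InJ P J p) (hq : InJ P J q) : InJ P J (p * q) := by
  obtain ⟨l, hl, rfl⟩ := hp
  obtain ⟨l', hl', rfl⟩ := hq
  exact ⟨l ++ l', fun s hs => (List.mem_append.1 hs).elim (hl s) (hl' s), wd_append P l l'⟩

theorem InJ.inv {J : Set G} {p : Weyl P} (hp : InJ P J p) : InJ P J p⁻¹ := by
  obtain ⟨l, hl, rfl⟩ := hp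
  exact ⟨l.reverse, fun s hs => hl s (List.mem_reverse.1 hs), wd_reverse P l⟩

theorem mem_parabolic_of_mem_cell {J : Set G} {q : Weyl P} {g : G} (hq : InJ P J q)
    (hg : g ∈ cell P q) : g ∈ P.parabolic J := by
  obtain ⟨l, hl, rfl⟩ := hq
  induction l generalizing g with
  | nil =>
    rw [wd_nil, cell_one] at hg
    exact Subgroup.mem_sup_left hg
  | cons s l ih =>
    rw [wd_cons] at hg
    obtain ⟨x, hx, y, hy, rfl⟩ := exists_factor P hg
    refine mul_mem ?_ (ih (g := y) (fun t ht => hl t (List.mem_cons_of_mem _ ht)) hy)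
    obtain ⟨a, ha, b, hb, rfl⟩ := (mem_cell_cls P).1 hx
    exact mul_mem (mul_mem (Subgroup.mem_sup_left ha)
      (Subgroup.mem_sup_right (Subgroup.subset_closure (hl s List.mem_cons_self))))
      (Subgroup.mem_sup_left hb)

theorem mul_mem_cells {J : Set G} {p q : Weyl P} {x y : G} (hp : InJ P J p) (hq : InJ P J q)
    (hx : x ∈ cell P p) (hy : y ∈ cell P q) : ∃ r, InJ P J r ∧ x * y ∈ cell P r := by
  obtain ⟨l, hl, rfl⟩ := hp
  induction l generalizing x with
  | nil =>
    rw [wd_nil, cell_one] at hx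
    exact ⟨q, hq, B_mul_cell P hx hy⟩
  | cons s l ih =>
    rw [wd_cons] at hx
    obtain ⟨u, hu, v, hv, rfl⟩ := exists_factor P hx
    obtain ⟨r, hr, hvy⟩ := ih (x := v) (fun t ht => hl t (List.mem_cons_of_mem _ ht)) hv
    rw [mul_assoc]
    rcases σ_mul_cell P s hu hvy with h | h
    · exact ⟨σ P s * r, InJ.mul P ⟨[s], by simpa using hl s List.mem_cons_self, by simp⟩ hr, h⟩
    · exact ⟨r, hr, h⟩

theorem mem_parabolic_iff {J : Set G} (hJ : J ⊆ P.S) {g : G} :
    g ∈ P.parabolic J ↔ ∃ q, InJ P J q ∧ g ∈ cell P q := by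
  refine ⟨fun hg => ?_, fun ⟨q, hq, hg⟩ => mem_parabolic_of_mem_cell P hq hg⟩
  rw [Cfsg.BNPair.parabolic, Subgroup.sup_eq_closure] at hg
  induction hg using Subgroup.closure_induction with
  | mem x hx =>
    rcases hx with hx | hx
    · exact ⟨1, ⟨[], by simp, rfl⟩, by rw [cell_one]; exact hx⟩
    · induction hx using Subgroup.closure_induction with
      | mem x hx =>
        exact ⟨σ P ⟨x, hJ hx⟩, ⟨[⟨x, hJ hx⟩], by simpa using hx, by simp⟩, self_mem_cell_σ P _⟩
      | one => exact ⟨1, ⟨[], by simp, rfl⟩, by rw [cell_one]; exact P.B.one_mem⟩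
      | mul x y _ _ hx hy =>
        obtain ⟨p, hp, hx⟩ := hx; obtain ⟨q, hq, hy⟩ := hy
        exact mul_mem_cells P hp hq hx hy
      | inv x _ hx =>
        obtain ⟨p, hp, hx⟩ := hx
        exact ⟨p⁻¹, InJ.inv P hp, inv_mem_cell P hx⟩
  | one => exact ⟨1, ⟨[], by simp, rfl⟩, by rw [cell_one]; exact P.B.one_mem⟩
  | mul x y _ _ hx hy =>
    obtain ⟨p, hp, hx⟩ := hx; obtain ⟨q, hq, hy⟩ := hy
    exact mul_mem_cells P hp hq hx hy
  | inv x _ hx =>
    obtain ⟨p, hp, hx⟩ := hx
    exact ⟨p⁻¹, InJ.inv P hp, inv_mem_cell P hx⟩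

theorem parabolic_S : P.parabolic P.S = ⊤ := by
  rw [eq_top_iff, ← P.sup_eq_top]
  refine sup_le le_sup_left ?_
  calc P.N = Subgroup.closure P.S ⊔ (P.B ⊓ P.N) := P.closure_sup.symm
    _ ≤ _ := sup_le le_sup_right (inf_le_left.trans le_sup_left)

theorem bruhat (g : G) : ∃ q : Weyl P, g ∈ cell P q := by
  have hg : g ∈ P.parabolic P.S := by rw [parabolic_S]; trivial
  obtain ⟨q, _, h⟩ := (mem_parabolic_iff P subset_rfl).1 hg
  exact ⟨q, h⟩

/-- For `s ∈ S`, membership in the parabolic subgroup of `J` means membership in `J`. -/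
theorem mem_parabolic_iff_mem {J : Set G} (hJ : J ⊆ P.S) {s : G} (hs : s ∈ P.S) :
    s ∈ P.parabolic J ↔ s ∈ J := by
  refine ⟨fun h => ?_, fun h => Subgroup.mem_sup_right (Subgroup.subset_closure h)⟩
  obtain ⟨q, hq, hmem⟩ := (mem_parabolic_iff P hJ).1 h
  obtain rfl := cell_unique P hmem (self_mem_cell_σ P ⟨s, hs⟩)
  obtain ⟨l, hl, hred, he⟩ := InJ.reduced P hq
  simp only [Red, he, len_σ] at hred
  obtain ⟨a, rfl⟩ := List.length_eq_one_iff.1 hred.symm
  have : a = ⟨s, hs⟩ := σ_injective P (by simpa using he)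
  simpa [this] using hl a (by simp)

/-- A subgroup containing `B` that meets a cell contains all letters of its reduced words. -/
theorem letters_mem_of_cell {M : Subgroup G} (hB : P.B ≤ M) {l : List P.S} (hl : Red P l)
    {g : G} (hg : g ∈ cell P (wd P l)) (hM : g ∈ M) : ∀ s ∈ l, (s : G) ∈ M := by
  obtain ⟨n, hn, a, ha, b, hb, rfl⟩ := hg
  have hnM : (n : G) ∈ M := by
    have := M.mul_mem (M.mul_mem (M.inv_mem (hB ha)) hM) (M.inv_mem (hB hb))
    simpa [mul_assoc] using this
  exact letters_mem P hB hl hn.symm fun x hx => M.mul_mem (M.mul_mem hnM (hB hx)) (M.inv_mem hnM)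

theorem eq_parabolic {M : Subgroup G} (hB : P.B ≤ M) :
    M = P.parabolic (P.S ∩ (M : Set G)) := by
  refine le_antisymm (fun g hg => ?_) (sup_le hB ((Subgroup.closure_le _).2 Set.inter_subset_right))
  obtain ⟨q, hq⟩ := bruhat P g
  obtain ⟨l, hl, rfl⟩ := exists_reduced P q
  exact mem_parabolic_of_mem_cell P
    ⟨l, fun s hs => ⟨s.2, letters_mem_of_cell P hB hl.symm hq hg s hs⟩, rfl⟩ hq

/-- An element of `N` conjugating `B` into a parabolic subgroup lies in it. -/
theorem mem_parabolic_of_conj {J : Set G} {n : P.N}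
    (h : ∀ b ∈ P.B, (n : G) * b * (n : G)⁻¹ ∈ P.parabolic J) : (n : G) ∈ P.parabolic J := by
  obtain ⟨l, hl, he⟩ := exists_reduced P (cls P n)
  have hM := letters_mem P (M := P.parabolic J) le_sup_left (show Red P l by rw [Red, he, hl]) he h
  have hmem : (n : G) ∈ P.parabolic (P.S ∩ (P.parabolic J : Set G)) :=
    mem_parabolic_of_mem_cell P ⟨l, fun s hs => ⟨s.2, hM s hs⟩, he⟩ (self_mem_cell P n)
  rwa [← eq_parabolic P (M := P.parabolic J) le_sup_left] at hmem

end CfsgLib.BN
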