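import Cfsg.Agent.Lib.BN.Basic

/-! Matsumoto's theorem for the Weyl group of a (B,N)-pair, and the Coxeter system. -/

set_option autoImplicit false

namespace CfsgLib.BN

variable {G : Type*} [Group G] (P : Cfsg.BNPair G)

/-- The alternating word `x y x y …` of length `j`. -/
def alt {α : Type*} (x y : α) : ℕ → List α
  | 0 => []
  | j + 1 => x :: alt y x j

@[simp] theorem alt_length {α : Type*} : ∀ (x y : α) (j : ℕ), (alt x y j).length = j
  | _, _, 0 => rfl
  | x, y, j + 1 => by simp [alt, alt_length y x j]

theorem alt_eraseIdx_last {α : Type*} :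
    ∀ (x y : α) (j : ℕ), (alt x y (j + 1)).eraseIdx j = alt x y j
  | _, _, 0 => rfl
  | x, y, j + 1 => by
    show (x :: alt y x (j + 1)).eraseIdx (j + 1) = x :: alt y x j
    rw [List.eraseIdx_cons_succ, alt_eraseIdx_last y x j]

theorem alt_prod_mul_inv {H : Type*} [Group H] (f : P.S → H) (hf : ∀ s, f s * f s = 1) :
    ∀ (x y : P.S) (j : ℕ),
      ((alt x y j).map f).prod * (((alt y x j).map f).prod)⁻¹ = (f x * f y) ^ j
  | _, _, 0 => by simp [alt]
  | x, y, j + 1 => by
    have ih := alt_prod_mul_inv f hf y x j
    have hy : (f y)⁻¹ = f y := inv_eq_of_mul_eq_one_right (hf y)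
    simp only [alt, List.map_cons, List.prod_cons, mul_inv_rev]
    rw [← mul_assoc, mul_assoc (f x), ih, hy]
    clear ih hy
    induction j with
    | zero => simp
    | succ j ih => rw [pow_succ (f x * f y) (j + 1), ← ih, pow_succ]; group

theorem red_cons_of_eq {a b : List P.S} (hb : Red P b) (hl : a.length = b.length)
    (he : wd P a = wd P b) : Red P a := by
  simp only [Red] at hb ⊢
  rw [he, hb, hl]

/-- Deleting an inner letter of an alternating word gives a word that shortens by two. -/
theorem alt_eraseIdx_mid : ∀ (i j : ℕ) (x y : P.S), i + 3 ≤ j →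
    ∃ e : List P.S, e.length + 3 ≤ j ∧ wd P e = wd P ((alt x y j).eraseIdx (i + 1))
  | 0, j, x, y, h => by
    obtain ⟨k, rfl⟩ : ∃ k, j = k + 3 := ⟨j - 3, by omega⟩
    exact ⟨alt y x k, by simp, by simp [alt]⟩
  | i + 1, j, x, y, h => by
    obtain ⟨k, rfl⟩ : ∃ k, j = k + 1 := ⟨j - 1, by omega⟩
    obtain ⟨e, he, hv⟩ := alt_eraseIdx_mid i k y x (by omega)
    refine ⟨x :: e, by simp; omega, ?_⟩
    show wd P (x :: e) = wd P ((x :: alt y x k).eraseIdx (i + 1 + 1))
    rw [List.eraseIdx_cons_succ, wd_cons, wd_cons, hv]

/-- An assignment of group elements respecting the braid relations. -/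
structure BraidHom (H : Type*) [Group H] where
  /-- the images of the distinguished involutions -/
  f : P.S → H
  sq : ∀ s, f s * f s = 1
  braid : ∀ s t (j : ℕ), (σ P s * σ P t) ^ j = 1 → (f s * f t) ^ j = 1

variable {H : Type*} [Group H] (φ : BraidHom P H)

/-- Value of a word under a braid assignment. -/
def BraidHom.ev (l : List P.S) : H := (l.map φ.f).prod

theorem BraidHom.alt_eq {x y : P.S} {j : ℕ} (h : wd P (alt x y j) = wd P (alt y x j)) :
    φ.ev P (alt x y j) = φ.ev P (alt y x j) := by
  have h1 := alt_prod_mul_inv P (σ P) (σ_mul_self P) x y j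
  rw [show ((alt x y j).map (σ P)).prod = wd P (alt x y j) from rfl,
    show ((alt y x j).map (σ P)).prod = wd P (alt y x j) from rfl, h, mul_inv_cancel] at h1
  have h2 := alt_prod_mul_inv P φ.f φ.sq x y j
  rw [φ.braid x y j h1.symm] at h2
  exact mul_inv_eq_one.1 h2

/-- Matsumoto's theorem. -/
theorem matsumoto {a b : List P.S} (ha : Red P a) (hb : Red P b) (h : wd P a = wd P b) :
    φ.ev P a = φ.ev P b := by
  induction hk : a.length using Nat.strong_induction_on generalizing a b with
  | _ k ih =>
    subst hk
    have hlen : a.length = b.length := by rw [← ha, ← hb, h]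
    have hd : ∀ {c d : List P.S}, Red P c → Red P d → wd P c = wd P a → wd P d = wd P a →
        ∀ {x : P.S} {c' d' : List P.S}, c = x :: c' → d = x :: d' → φ.ev P c = φ.ev P d := by
      intro c d hc hd hcw hdw x c' d' hc' hd'
      subst hc' hd'
      have hlen' : (x :: c').length = a.length := by rw [← hc, ← ha, hcw]
      have hcd : wd P c' = wd P d' := by simpa using hcw.trans hdw.symm
      have := ih c'.length (by simp only [List.length_cons] at hlen'; omega)
        (Red.tail P hc) (Red.tail P hd) hcd rfl
      simp only [BraidHom.ev, List.map_cons, List.prod_cons] at this ⊢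
      rw [this]
    by_contra hne
    suffices H : ∀ n j, n + j = a.length → 1 ≤ j → ∀ (x y : P.S) (r d' : List P.S),
        Red P (alt x y j ++ r) → Red P (y :: d') → wd P (alt x y j ++ r) = wd P a →
        wd P (y :: d') = wd P a → (alt x y j ++ r).length = a.length →
        φ.ev P (alt x y j ++ r) ≠ φ.ev P (y :: d') → False by
      rcases a with _ | ⟨x, a'⟩
      · obtain rfl : b = [] := List.length_eq_zero_iff.1 hlen.symm
        exact hne rfl
      · rcases b with _ | ⟨y, b'⟩
        · simp at hlen
        exact H ((x :: a').length - 1) 1 (by simp) le_rfl x y a' b' ha hb rfl h.symm rfl hne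
    intro n
    induction n with
    | zero =>
      intro j hj hj1 x y r d' hc hd' hcw hdw hcl hne'
      obtain rfl : r = [] := by
        simp only [List.length_append, alt_length] at hcl
        exact List.length_eq_zero_iff.1 (by omega)
      obtain ⟨i, hi, e⟩ := exchange P y hc (by
        rw [hcw, ← hdw, wd_cons, σ_mul_σ_mul]
        have hx := len_le P d'
        simp only [Red, hdw] at hd'
        simp only [List.length_cons] at hd'
        rw [hcl, ← ha]
        omega)
      simp only [List.append_nil, alt_length] at hi e hc hcw hne'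
      refine alt_step j x y i hi hc e hne' ?_
      intro hx
      exact hd hx hd' (by
        rw [← hcw]
        exact (alt_eq_wd j x y i hi hc e).symm) hdw
    | succ n ihn =>
      intro j hj hj1 x y r d' hc hd' hcw hdw hcl hne'
      obtain ⟨i, hi, e⟩ := exchange P y hc (by
        rw [hcw, ← hdw, wd_cons, σ_mul_σ_mul]
        have hx := len_le P d'
        simp only [Red, hdw] at hd'
        simp only [List.length_cons] at hd'
        rw [hcl, ← ha]
        omega)
      by_cases hij : i < j
      · rw [List.eraseIdx_append_of_lt_length (by simpa using hij), wd_append, wd_append,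
          ← mul_assoc] at e
        have e' := mul_right_cancel e
        have hc' := Red.of_append_left P hc
        have hw := alt_eq_wd j x y i hij hc' e'
        have heq : φ.ev P (alt x y j) = φ.ev P (alt y x j) := φ.alt_eq P hw
        have hred : Red P (alt y x j ++ r) :=
          red_cons_of_eq P hc (by simp) (by simp [hw])
        apply hne'
        calc φ.ev P (alt x y j ++ r) = φ.ev P (alt y x j ++ r) := by
              simp only [BraidHom.ev, List.map_append, List.prod_append] at heq ⊢
              rw [heq]
          _ = φ.ev P (y :: d') := by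
              obtain ⟨j', rfl⟩ : ∃ j', j = j' + 1 := ⟨j - 1, by omega⟩
              exact hd hred hd' (by simp [← hcw, hw]) hdw rfl rfl
      · have he : (alt x y j ++ r).eraseIdx i = alt x y j ++ r.eraseIdx (i - j) := by
          rw [List.eraseIdx_append_of_length_le (by simpa using Nat.le_of_not_lt hij), alt_length]
        rw [he] at e
        have hw : wd P (alt y x (j + 1) ++ r.eraseIdx (i - j)) = wd P a := by
          rw [← hcw]
          show wd P (y :: alt x y j ++ r.eraseIdx (i - j)) = _
          rw [List.cons_append, wd_cons, ← e, σ_mul_σ_mul]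
        have hl : (alt y x (j + 1) ++ r.eraseIdx (i - j)).length = a.length := by
          simp only [List.length_append, alt_length, List.length_eraseIdx] at hi hcl ⊢
          split <;> omega
        have hred : Red P (alt y x (j + 1) ++ r.eraseIdx (i - j)) :=
          red_cons_of_eq P ha hl hw
        obtain ⟨j', rfl⟩ : ∃ j', j = j' + 1 := ⟨j - 1, by omega⟩
        refine ihn (j' + 1 + 1) (by omega) (by omega) y x _ (alt y x j' ++ r) hred hc hw hcw hl ?_
        intro hbad
        exact hne' ((hbad.symm).trans (hd hred hd' hw hdw rfl rfl))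
where
  /-- Exchange inside an alternating word gives the braid equation. -/
  alt_eq_wd (j : ℕ) (x y : P.S) (i : ℕ) (hi : i < j) (hc : Red P (alt x y j))
      (e : σ P y * wd P (alt x y j) = wd P ((alt x y j).eraseIdx i)) :
      wd P (alt x y j) = wd P (alt y x j) := by
    have e' : wd P (alt x y j) = σ P y * wd P ((alt x y j).eraseIdx i) := by
      rw [← e, σ_mul_σ_mul]
    obtain ⟨k, rfl⟩ : ∃ k, j = k + 1 := ⟨j - 1, by omega⟩
    by_cases hik : i = k
    · subst hik
      rw [e', alt_eraseIdx_last]
      simp [alt]
    exfalso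
    rcases Nat.eq_zero_or_pos i with hi0 | hi0
    · subst hi0
      obtain ⟨k', rfl⟩ : ∃ k', k = k' + 1 := ⟨k - 1, by omega⟩
      simp only [alt, List.eraseIdx_cons_zero, wd_cons, σ_mul_σ_mul] at e'
      have := len_le P (alt x y k')
      simp only [Red, alt, List.length_cons, alt_length, wd_cons, e'] at hc
      rw [alt_length] at this
      omega
    · obtain ⟨i', rfl⟩ : ∃ i', i = i' + 1 := ⟨i - 1, by omega⟩
      obtain ⟨w, hw, hv⟩ := alt_eraseIdx_mid P i' (k + 1) x y (by omega)
      rw [← hv, ← wd_cons] at e'
      have := len_le P (y :: w)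
      simp only [Red, alt_length, e'] at hc
      simp only [List.length_cons] at this
      omega
  /-- The last step. -/
  alt_step (j : ℕ) (x y : P.S) (i : ℕ) (hi : i < j) (hc : Red P (alt x y j))
      (e : σ P y * wd P (alt x y j) = wd P ((alt x y j).eraseIdx i))
      {d : List P.S} (hne : φ.ev P (alt x y j) ≠ φ.ev P (y :: d))
      (hd : Red P (alt y x j) → ∀ {z : P.S} {c' d' : List P.S}, alt y x j = z :: c' →
        y :: d = z :: d' → φ.ev P (alt y x j) = φ.ev P (y :: d)) : False := by
    have hw := alt_eq_wd j x y i hi hc e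
    obtain ⟨j', rfl⟩ : ∃ j', j = j' + 1 := ⟨j - 1, by omega⟩
    exact hne ((φ.alt_eq P hw).trans (hd (red_cons_of_eq P hc (by simp) hw.symm) rfl rfl))

open Classical in
/-- The Coxeter matrix of the Weyl group. -/
noncomputable def coxMatrix : CoxeterMatrix P.S where
  M := Matrix.of fun s t => orderOf (σ P s * σ P t)
  isSymm := by
    refine Matrix.IsSymm.ext fun s t => ?_
    have : σ P t * σ P s = (σ P s * σ P t)⁻¹ := by simp
    simp only [Matrix.of_apply, this, orderOf_inv]
  diagonal := fun s => by simp [σ_mul_self]
  off_diagonal := fun s t hst h => by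
    simp only [Matrix.of_apply, orderOf_eq_one_iff] at h
    refine hst (σ_injective P ?_)
    rw [eq_inv_of_mul_eq_one_left h, σ_inv]

theorem σ_liftable : (coxMatrix P).IsLiftable (σ P) := fun s t => by
  show (σ P s * σ P t) ^ orderOf (σ P s * σ P t) = 1
  exact pow_orderOf_eq_one _

theorem simple_braid (s t : P.S) (j : ℕ) (h : (σ P s * σ P t) ^ j = 1) :
    ((coxMatrix P).simple s * (coxMatrix P).simple t) ^ j = 1 := by
  obtain ⟨k, rfl⟩ := orderOf_dvd_of_pow_eq_one h
  have := (coxMatrix P).toCoxeterSystem.simple_mul_simple_pow s t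
  rw [pow_mul]
  simp only [CoxeterMatrix.toCoxeterSystem_simple] at this
  rw [show orderOf (σ P s * σ P t) = (coxMatrix P).M s t from rfl, this, one_pow]

theorem simple_sq (s : P.S) : (coxMatrix P).simple s * (coxMatrix P).simple s = 1 := by
  have := (coxMatrix P).toCoxeterSystem.simple_mul_simple_self s
  simpa [CoxeterMatrix.toCoxeterSystem_simple] using this

/-- The tautological braid assignment. -/
noncomputable def coxBraid : BraidHom P (coxMatrix P).Group :=
  ⟨(coxMatrix P).simple, simple_sq P, simple_braid P⟩

/-- The map from the Coxeter group onto the Weyl group. -/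
noncomputable def toWeyl : (coxMatrix P).Group →* Weyl P :=
  (coxMatrix P).toCoxeterSystem.lift ⟨σ P, σ_liftable P⟩

theorem toWeyl_simple (s : P.S) : toWeyl P ((coxMatrix P).simple s) = σ P s := by
  rw [← CoxeterMatrix.toCoxeterSystem_simple]
  exact CoxeterSystem.lift_apply_simple _ _ _

theorem toWeyl_ev (l : List P.S) : toWeyl P ((coxBraid P).ev P l) = wd P l := by
  induction l with
  | nil => exact map_one _
  | cons s l ih =>
    simp only [BraidHom.ev, List.map_cons, List.prod_cons] at ih ⊢
    rw [map_mul, ih]
    exact congrArg (· * wd P l) (toWeyl_simple P s) |>.trans (wd_cons P s l).symm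

theorem exists_red_ev (l : List P.S) :
    ∃ l' : List P.S, Red P l' ∧ (coxBraid P).ev P l = (coxBraid P).ev P l' := by
  induction l with
  | nil => exact ⟨[], len_one P, rfl⟩
  | cons s l ih =>
    obtain ⟨t, ht, he⟩ := ih
    have hev : ∀ u, (coxBraid P).ev P (s :: u) = (coxMatrix P).simple s * (coxBraid P).ev P u :=
      fun u => by simp [BraidHom.ev, coxBraid]
    rcases len_σ_mul_cases P s (wd P t) with h | h
    · exact ⟨s :: t, by simp only [Red, wd_cons, h, List.length_cons]; rw [ht], by rw [hev, hev, he]⟩
    · obtain ⟨i, hi, e⟩ := exchange P s ht (by rw [← ht]; omega)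
      refine ⟨t.eraseIdx i, red_eraseIdx P ht hi e, ?_⟩
      have hw : wd P (s :: t.eraseIdx i) = wd P t := by rw [wd_cons, ← e, σ_mul_σ_mul]
      have hred : Red P (s :: t.eraseIdx i) :=
        red_cons_of_eq P ht (by rw [List.length_cons, List.length_eraseIdx, if_pos hi]; omega) hw
      rw [hev, he, ← matsumoto P (coxBraid P) hred ht hw, hev, ← mul_assoc, simple_sq, one_mul]

theorem toWeyl_bijective : Function.Bijective (toWeyl P) := by
  refine ⟨(injective_iff_map_eq_one _).2 fun g hg => ?_, fun q => ?_⟩
  · obtain ⟨l, hl⟩ := (coxMatrix P).toCoxeterSystem.wordProd_surjective g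
    have hl' : (coxBraid P).ev P l = g := by
      rw [← hl]; simp [CoxeterSystem.wordProd, BraidHom.ev, coxBraid]
    obtain ⟨l', hred, he⟩ := exists_red_ev P l
    rw [← hl', he, toWeyl_ev] at hg
    simp only [Red, hg, len_one] at hred
    rw [← hl', he, List.length_eq_zero_iff.1 hred.symm]
    rfl
  · obtain ⟨l, rfl⟩ := exists_word P q
    exact ⟨_, toWeyl_ev P l⟩

/-- The Weyl group of a (B,N)-pair as a Coxeter system. -/
noncomputable def coxeterSystem : CoxeterSystem (coxMatrix P) (Weyl P) :=
  ⟨(MulEquiv.ofBijective (toWeyl P) (toWeyl_bijective P)).symm⟩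

theorem coxeterSystem_simple (s : P.S) : (coxeterSystem P).simple s = σ P s := by
  show (MulEquiv.ofBijective (toWeyl P) (toWeyl_bijective P)).symm.symm _ = _
  exact toWeyl_simple P s

end CfsgLib.BN
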