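/-
The alternating sum of the permutation characters on the cosets of the parabolic subgroups of a BN-pair.
-/
import Cfsg.Agent.Lib.BN.Basic
import Cfsg.Agent.Lib.GLFlags.DoubleCoset
import Cfsg.Agent.Lib.CharTheory.Irr
import Cfsg.Prelude.Def_ParabolicCharacters
import Mathlib.Algebra.BigOperators.Ring.Finset
import Mathlib.Data.Nat.Choose.Sum

namespace CfsgLib.BN

open Cfsg

variable {G : Type*} [Group G] (P : Cfsg.BNPair G)

theorem len_inv (q : Weyl P) : len P q⁻¹ = len P q := by
  have key : ∀ p, len P p⁻¹ ≤ len P p := fun p => by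
    obtain ⟨l, hl, rfl⟩ := exists_reduced P p
    rw [← wd_reverse]
    exact (len_le P _).trans (by simp [hl])
  refine le_antisymm (key q) ?_
  simpa using key q⁻¹

theorem len_mul_le (p q : Weyl P) : len P (p * q) ≤ len P p + len P q := by
  obtain ⟨a, ha, rfl⟩ := exists_reduced P p
  obtain ⟨c, hc, rfl⟩ := exists_reduced P q
  rw [← wd_append]
  exact (len_le P _).trans (by simp [ha, hc])

theorem len_mul_σ_cases (q : Weyl P) (s : P.S) :
    len P (q * σ P s) = len P q + 1 ∨ len P (q * σ P s) + 1 = len P q := by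
  have h := len_σ_mul_cases P s q⁻¹
  have e : σ P s * q⁻¹ = (q * σ P s)⁻¹ := by
    rw [mul_inv_rev, inv_eq_of_mul_eq_one_right (σ_mul_self P s)]
  rwa [e, len_inv, len_inv] at h

/-- Every word has a reduced subword with the same value. -/
theorem exists_reduced_sublist : ∀ l : List P.S, ∃ l' : List P.S, l'.Sublist l ∧ Red P l' ∧ wd P l' = wd P l := by
  intro l
  induction l with
  | nil => exact ⟨[], List.Sublist.refl _, len_one P, rfl⟩
  | cons s t ih =>
    obtain ⟨t', ht', hred, he⟩ := ih
    have hred' : len P (wd P t') = t'.length := hred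
    rcases len_σ_mul_cases P s (wd P t') with h | h
    · exact ⟨s :: t', ht'.cons_cons s, by simp only [Red, wd_cons, h, List.length_cons, hred'], by simp [he]⟩
    · obtain ⟨i, hi, e⟩ := exchange P s hred (by omega)
      exact ⟨t'.eraseIdx i, ((List.eraseIdx_sublist t' i).trans ht').cons s, red_eraseIdx P hred hi e,
        by rw [← e, wd_cons, he]⟩

/-- The double coset of `d`. -/
def InDbl (J K : Set G) (d x : Weyl P) : Prop := ∃ u v, InJ P J u ∧ InJ P K v ∧ x = u * d * v

/-- Shortest on the left modulo `J`. -/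
def LMin (J : Set G) (x : Weyl P) : Prop := ∀ s : P.S, (s : G) ∈ J → len P x < len P (σ P s * x)

/-- Shortest on the right modulo `K`. -/
def RMin (K : Set G) (x : Weyl P) : Prop := ∀ s : P.S, (s : G) ∈ K → len P x < len P (x * σ P s)

theorem inJ_one (J : Set G) : InJ P J 1 := ⟨[], by simp, rfl⟩

theorem inJ_σ {J : Set G} {s : P.S} (hs : (s : G) ∈ J) : InJ P J (σ P s) :=
  ⟨[s], by simpa using hs, by simp⟩

theorem inJ_empty {u : Weyl P} (h : InJ P (∅ : Set G) u) : u = 1 := by
  obtain ⟨l, hl, rfl⟩ := h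
  cases l with
  | nil => rfl
  | cons s t => exact absurd (hl s List.mem_cons_self) (Set.notMem_empty _)

theorem InDbl.refl (J K : Set G) (d : Weyl P) : InDbl P J K d d :=
  ⟨1, 1, inJ_one P J, inJ_one P K, by simp⟩

theorem InDbl.symm {J K : Set G} {d x : Weyl P} (h : InDbl P J K d x) : InDbl P J K x d := by
  obtain ⟨u, v, hu, hv, rfl⟩ := h
  exact ⟨u⁻¹, v⁻¹, InJ.inv P hu, InJ.inv P hv, by group⟩

theorem InDbl.trans {J K : Set G} {a b c : Weyl P} (h : InDbl P J K a b) (h' : InDbl P J K b c) :
    InDbl P J K a c := by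
  obtain ⟨u, v, hu, hv, rfl⟩ := h
  obtain ⟨u', v', hu', hv', rfl⟩ := h'
  exact ⟨u' * u, v * v', InJ.mul P hu' hu, InJ.mul P hv hv', by group⟩

theorem exists_shortest (J K : Set G) (x : Weyl P) :
    ∃ d, InDbl P J K x d ∧ ∀ y, InDbl P J K x y → len P d ≤ len P y := by
  classical
  have hex : ∃ k, ∃ d, InDbl P J K x d ∧ len P d = k := ⟨_, x, InDbl.refl P J K x, rfl⟩
  obtain ⟨d, hd, hk⟩ := Nat.find_spec hex
  exact ⟨d, hd, fun y hy => hk ▸ Nat.find_min' hex ⟨y, hy, rfl⟩⟩

theorem shortest_min {J K : Set G} {d : Weyl P} (h : ∀ y, InDbl P J K d y → len P d ≤ len P y) :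
    LMin P J d ∧ RMin P K d := by
  refine ⟨fun s hs => ?_, fun s hs => ?_⟩
  · have := h (σ P s * d) ⟨σ P s, 1, inJ_σ P hs, inJ_one P K, by simp⟩
    rcases len_σ_mul_cases P s d with e | e <;> omega
  · have := h (d * σ P s) ⟨1, σ P s, inJ_one P J, inJ_σ P hs, by simp⟩
    rcases len_mul_σ_cases P d s with e | e <;> omega

theorem min_eq_shortest {J K : Set G} {d x : Weyl P} (h : ∀ y, InDbl P J K d y → len P d ≤ len P y)
    (hx : InDbl P J K d x) (hl : LMin P J x) (hr : RMin P K x) : x = d := by
  obtain ⟨u, v, ⟨a, ha, rfl⟩, ⟨c, hc, rfl⟩, rfl⟩ := hx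
  obtain ⟨ld, hld, rfl⟩ := exists_reduced P d
  obtain ⟨l', hsub, hred, hval⟩ := exists_reduced_sublist P (a ++ (ld ++ c))
  obtain ⟨a', r, rfl, ha', hr'⟩ := List.sublist_append_iff.1 hsub
  obtain ⟨m, c', rfl, hm, hc'⟩ := List.sublist_append_iff.1 hr'
  simp only [wd_append] at hval
  have hdm : InDbl P J K (wd P ld) (wd P m) := by
    refine ⟨(wd P a')⁻¹ * wd P a, wd P c * (wd P c')⁻¹, InJ.mul P (InJ.inv P ⟨a', fun s hs => ha s (ha'.subset hs), rfl⟩) ⟨a, ha, rfl⟩,
      InJ.mul P ⟨c, hc, rfl⟩ (InJ.inv P ⟨c', fun s hs => hc s (hc'.subset hs), rfl⟩), ?_⟩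
    calc wd P m = (wd P a')⁻¹ * (wd P a' * (wd P m * wd P c')) * (wd P c')⁻¹ := by group
      _ = _ := by rw [hval]; group
  have h1 := h _ hdm
  have hmld : m = ld := hm.eq_of_length_le (by have := len_le P m; omega)
  subst m
  have e : wd P a * wd P ld * wd P c = wd P (a' ++ (ld ++ c')) := by
    simp only [wd_append]; rw [hval]; group
  rw [e] at hl hr ⊢
  have hlen : len P (wd P (a' ++ (ld ++ c'))) = (a' ++ (ld ++ c')).length := hred
  cases a' with
  | cons s t =>
    exfalso
    have := hl s (ha s (ha'.subset List.mem_cons_self))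
    rw [List.cons_append] at this hlen
    rw [hlen, wd_cons, σ_mul_σ_mul] at this
    have := len_le P (t ++ (ld ++ c'))
    simp only [List.length_cons] at *
    omega
  | nil =>
    rcases List.eq_nil_or_concat c' with rfl | ⟨t, s, rfl⟩
    · simp
    · exfalso
      rw [List.concat_eq_append] at hlen hr hc'
      have := hr s (hc s (hc'.subset (by simp)))
      rw [hlen] at this
      simp only [List.nil_append, wd_append, wd_cons, wd_nil, mul_one, List.length_append, List.length_cons,
        List.length_nil] at this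
      have h2 := len_le P (ld ++ t)
      simp only [wd_append, List.length_append] at h2
      have e2 : wd P ld * (wd P t * σ P s) * σ P s = wd P ld * wd P t := by
        simp [mul_assoc, σ_mul_self]
      rw [e2] at this
      omega

/-- The minimal element of a double coset is unique. -/
theorem min_unique {J K : Set G} {x y : Weyl P} (h : InDbl P J K x y) (hx : LMin P J x) (hx' : RMin P K x)
    (hy : LMin P J y) (hy' : RMin P K y) : x = y := by
  obtain ⟨d, hd, hmin⟩ := exists_shortest P J K x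
  have hmin' : ∀ z, InDbl P J K d z → len P d ≤ len P z := fun z hz => hmin z (hd.trans P hz)
  rw [min_eq_shortest P hmin' (hd.symm P) hx hx',
    min_eq_shortest P hmin' ((hd.symm P).trans P h) hy hy']

/-- Lengths add in a coset of a standard subgroup. -/
theorem len_add {K : Set G} {d r : Weyl P} (hd : RMin P K d) (hr : InJ P K r) :
    len P (d * r) = len P d + len P r := by
  obtain ⟨c, hc, hred, rfl⟩ := InJ.reduced P hr
  obtain ⟨ld, hld, rfl⟩ := exists_reduced P d
  obtain ⟨l', hsub, hred', hval⟩ := exists_reduced_sublist P (ld ++ c)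
  obtain ⟨m, c', rfl, hm, hc'⟩ := List.sublist_append_iff.1 hsub
  simp only [wd_append] at hval
  have hdm : InDbl P (∅ : Set G) K (wd P ld) (wd P m) :=
    ⟨1, wd P c * (wd P c')⁻¹, inJ_one P _,
      InJ.mul P ⟨c, hc, rfl⟩ (InJ.inv P ⟨c', fun s hs => hc s (hc'.subset hs), rfl⟩), by
        rw [eq_comm, one_mul, ← mul_assoc, mul_inv_eq_iff_eq_mul, hval]⟩
  have hshort : len P (wd P ld) ≤ len P (wd P m) := by
    obtain ⟨e, he, hmin⟩ := exists_shortest P (∅ : Set G) K (wd P ld)
    have hmin' : ∀ z, InDbl P (∅ : Set G) K e z → len P e ≤ len P z := fun z hz => hmin z (he.trans P hz)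
    rw [min_eq_shortest P hmin' (he.symm P) (fun s hs => absurd hs (Set.notMem_empty _)) hd]
    exact hmin _ hdm
  have hmld : m = ld := hm.eq_of_length_le (by have := len_le P m; omega)
  subst m
  have hcc : c' = c := by
    have e : wd P c' = wd P c := mul_left_cancel hval
    refine hc'.eq_of_length_le ?_
    have := len_le P c'
    simp only [Red] at hred
    rw [e] at this
    omega
  subst hcc
  simp only [Red, wd_append, List.length_append] at hred' hred
  omega

theorem mul_mem_cell_add : ∀ {p q : Weyl P}, len P (p * q) = len P p + len P q →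
    ∀ {x y : G}, x ∈ cell P p → y ∈ cell P q → x * y ∈ cell P (p * q) := by
  intro p
  obtain ⟨l, hl, rfl⟩ := exists_reduced P p
  induction l with
  | nil =>
    intro q _ x y hx hy
    rw [wd_nil, cell_one] at hx
    rw [wd_nil, one_mul]
    exact B_mul_cell P hx hy
  | cons s t ih =>
    intro q h x y hx hy
    rw [wd_cons] at hx h hl ⊢
    obtain ⟨u, hu, v, hv, rfl⟩ := exists_factor P hx
    have h1 := len_le P t
    have h2 := len_mul_le P (wd P t) q
    have h3 := len_σ_mul_le P s (wd P t * q)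
    have h4 := len_σ_mul_le P s (wd P t)
    simp only [List.length_cons, mul_assoc] at h hl ⊢
    exact σ_mul_cell_of_le P s (by omega) hu (ih (by omega) (by omega) hv hy)

theorem left_mul_cells {J : Set G} {p q : Weyl P} {x y : G} (hp : InJ P J p)
    (hx : x ∈ cell P p) (hy : y ∈ cell P q) : ∃ r, InJ P J r ∧ x * y ∈ cell P (r * q) := by
  obtain ⟨l, hl, rfl⟩ := hp
  induction l generalizing x with
  | nil =>
    rw [wd_nil, cell_one] at hx
    exact ⟨1, inJ_one P J, by rw [one_mul]; exact B_mul_cell P hx hy⟩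
  | cons s l ih =>
    rw [wd_cons] at hx
    obtain ⟨u, hu, v, hv, rfl⟩ := exists_factor P hx
    obtain ⟨r, hr, hvy⟩ := ih (x := v) (fun t ht => hl t (List.mem_cons_of_mem _ ht)) hv
    rw [mul_assoc]
    rcases σ_mul_cell P s hu hvy with h | h
    · exact ⟨σ P s * r, InJ.mul P (inJ_σ P (hl s List.mem_cons_self)) hr, by rwa [mul_assoc]⟩
    · exact ⟨r, hr, h⟩

/-- All right multiplications by a letter shorten. -/
def IsLong (d : Weyl P) : Prop := ∀ s : P.S, len P (d * σ P s) < len P d

theorem IsLong.len_mul {d : Weyl P} (hd : IsLong P d) (u : Weyl P) :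
    len P (d * u) + len P u = len P d := by
  induction hk : len P u generalizing u with
  | zero => rw [len_eq_zero P hk, mul_one, add_zero]
  | succ k ih =>
    obtain ⟨s, u', rfl, hu'⟩ := exists_cons P (q := u) (by omega)
    have h1 := ih u' (by omega)
    obtain ⟨a, ha, hae⟩ := exists_reduced P (d * u')
    obtain ⟨c, hc, hce⟩ := exists_reduced P u'⁻¹
    have hu'len : c.length = k := by rw [hc, len_inv]; omega
    have hwd : wd P (a ++ c) = d := by rw [wd_append, hae, hce, mul_inv_cancel_right]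
    have hrev : wd P (c.reverse ++ a.reverse) = d⁻¹ := by rw [← List.reverse_append, wd_reverse, hwd]
    have hred : Red P (c.reverse ++ a.reverse) := by
      simp only [Red, hrev, len_inv, List.length_append, List.length_reverse]
      omega
    have hlt : len P (σ P s * wd P (c.reverse ++ a.reverse)) < (c.reverse ++ a.reverse).length := by
      have e : σ P s * d⁻¹ = (d * σ P s)⁻¹ := by
        rw [mul_inv_rev, inv_eq_of_mul_eq_one_right (σ_mul_self P s)]
      rw [hrev, e, len_inv]
      have := hd s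
      have : len P (wd P (c.reverse ++ a.reverse)) = len P d := by rw [hrev, len_inv]
      simp only [Red] at hred
      omega
    obtain ⟨i, hi, he⟩ := exchange P s hred hlt
    have hcr : wd P c.reverse = u' := by rw [wd_reverse, hce, inv_inv]
    rw [wd_append, hcr] at he
    have hlb : len P d ≤ len P (d * (σ P s * u')) + (k + 1) := by
      have := len_mul_le P (d * (σ P s * u')) (σ P s * u')⁻¹
      rw [mul_inv_cancel_right, len_inv, hk] at this
      exact this
    by_cases hic : i < c.reverse.length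
    · exfalso
      rw [List.eraseIdx_append_of_lt_length hic, wd_append, ← mul_assoc] at he
      have h2 := mul_right_cancel he
      have h3 := len_le P (c.reverse.eraseIdx i)
      rw [← h2, List.length_eraseIdx_of_lt hic, List.length_reverse] at h3
      omega
    · rw [List.eraseIdx_append_of_length_le (not_lt.1 hic), wd_append, hcr] at he
      set a'' := a.reverse.eraseIdx (i - c.reverse.length) with ha''
      have e : d * (σ P s * u') = (wd P a'')⁻¹ := by
        have hd' : d = (u' * wd P a.reverse)⁻¹ := by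
          rw [← hcr, ← wd_append, hrev, inv_inv]
        rw [eq_inv_iff_mul_eq_one, mul_assoc, mul_assoc, ← he, hd']
        rw [σ_mul_σ_mul, inv_mul_cancel]
      have h3 := len_le P a''
      have h4 : a''.length = a.length - 1 := by
        rw [ha'', List.length_eraseIdx_of_lt, List.length_reverse]
        simp only [List.length_append, List.length_reverse] at hi hic ⊢
        omega
      have : 0 < a.length := by
        simp only [List.length_append, List.length_reverse] at hi hic
        omega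
      rw [e, len_inv] at hlb
      rw [e, len_inv]
      omega

theorem IsLong.unique {d d' : Weyl P} (h : IsLong P d) (h' : IsLong P d') : d = d' := by
  have h1 := h.len_mul P (d⁻¹ * d')
  have h2 := h'.len_mul P (d'⁻¹ * d)
  rw [mul_inv_cancel_left] at h1 h2
  rw [show d'⁻¹ * d = (d⁻¹ * d')⁻¹ by group, len_inv] at h2
  exact inv_mul_eq_one.1 (len_eq_zero P (show len P (d⁻¹ * d') = 0 by omega))

instance [Finite G] : Finite (Weyl P) := Finite.of_surjective (cls P) (cls_surjective P)

theorem IsLong.left [Finite G] {d : Weyl P} (h : IsLong P d) (s : P.S) :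
    len P (σ P s * d) < len P d := by
  have hinv : d⁻¹ = d := by
    refine IsLong.unique P (fun t => ?_) h
    have h1 := h.len_mul P d⁻¹
    have h2 := h.len_mul P (d⁻¹ * σ P t)
    rw [mul_inv_cancel_left, len_σ] at h2
    rcases len_mul_σ_cases P d⁻¹ t with e | e <;> [skip; omega]
    rw [len_inv] at e
    omega
  have e : σ P s * d = (d * σ P s)⁻¹ := by
    rw [mul_inv_rev, inv_eq_of_mul_eq_one_right (σ_mul_self P s), hinv]
  rw [e, len_inv]
  exact h s

/-! ### The alternating sum -/

/-- The set of representatives of a finite set of letters. -/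
def lset (K : Finset P.S) : Set G := Subtype.val '' (K : Set P.S)

theorem lset_subset (K : Finset P.S) : lset P K ⊆ P.S := by
  rintro _ ⟨s, -, rfl⟩; exact s.2

theorem mem_lset {K : Finset P.S} {s : P.S} : (s : G) ∈ lset P K ↔ s ∈ K :=
  ⟨fun ⟨t, ht, e⟩ => Subtype.ext e ▸ ht, fun h => ⟨s, h, rfl⟩⟩

/-- The alternating sum of the permutation characters on the parabolic cosets. -/
noncomputable def altChar [Fintype P.S] (g : G) : ℂ :=
  ∑ K : Finset P.S, (-1 : ℂ) ^ K.card * fixedPointCharacter (P.parabolic (lset P K)) g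

open Classical in
theorem sum_sign_min [Fintype P.S] (Q : P.S → Prop) [DecidablePred Q] :
    ∑ K : Finset P.S, (if ∀ s ∈ K, Q s then (-1 : ℂ) ^ K.card else 0) =
      if ∀ s, ¬ Q s then 1 else 0 := by
  rw [← Finset.sum_filter]
  have e : (Finset.univ.filter fun K : Finset P.S => ∀ s ∈ K, Q s) = (Finset.univ.filter Q).powerset := by
    ext K; simp [Finset.subset_iff]
  rw [e]
  have h := congrArg (Int.cast (R := ℂ)) (Finset.sum_powerset_neg_one_pow_card (x := Finset.univ.filter Q))
  push_cast at h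
  rw [h]
  have : (Finset.univ.filter Q) = ∅ ↔ ∀ s, ¬ Q s := by simp [Finset.filter_eq_empty_iff]
  simp only [this]

theorem card_dblCosets [Finite G] {J K : Set G} (hJ : J ⊆ P.S) (hK : K ⊆ P.S) :
    Nat.card (DoubleCoset.Quotient (P.parabolic J : Set G) (P.parabolic K)) =
      Nat.card {d : Weyl P // LMin P J d ∧ RMin P K d} := by
  choose rep hrep using cls_surjective P
  refine (Nat.card_congr (Equiv.ofBijective
    (fun d : {d : Weyl P // LMin P J d ∧ RMin P K d} => DoubleCoset.mk (P.parabolic J) (P.parabolic K) (rep d.1 : G))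
    ⟨?_, ?_⟩)).symm
  · rintro ⟨d, hd⟩ ⟨d', hd'⟩ e
    obtain ⟨h, hh, k, hk, e'⟩ := (DoubleCoset.eq _ _ _ _).1 e
    refine Subtype.ext (min_unique P ?_ hd.1 hd.2 hd'.1 hd'.2)
    obtain ⟨p, hp, hhp⟩ := (mem_parabolic_iff P hJ).1 hh
    obtain ⟨q, hq, hkq⟩ := (mem_parabolic_iff P hK).1 hk
    have hn : (rep d : G) ∈ cell P d := by
      have h0 := self_mem_cell P (rep d)
      rwa [hrep d] at h0
    obtain ⟨r, hr, h1⟩ := left_mul_cells P hp hhp hn
    obtain ⟨r', hr', h2⟩ := left_mul_cells P (InJ.inv P hq) (inv_mem_cell P hkq) (inv_mem_cell P h1)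
    have h3 : (rep d' : G) ∈ cell P d' := by
      have h0 := self_mem_cell P (rep d')
      rwa [hrep d'] at h0
    have h4 := inv_mem_cell P h2
    simp only [mul_inv_rev, inv_inv] at h4
    rw [← e'] at h4
    exact ⟨r, r'⁻¹, hr, InJ.inv P hr', cell_unique P h3 h4⟩
  · intro z
    induction z using Quotient.inductionOn' with
    | _ g =>
      obtain ⟨w, hw⟩ := bruhat P g
      obtain ⟨d, ⟨u, v, hu, hv, hdv⟩, hmin⟩ := exists_shortest P J K w
      have hd := shortest_min P (J := J) (K := K) (d := d) fun y hy =>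
        hmin y (InDbl.trans P ⟨u, v, hu, hv, hdv⟩ hy)
      refine ⟨⟨d, hd⟩, ?_⟩
      obtain ⟨u', v', hu', hv', hw'⟩ := InDbl.symm P (show InDbl P J K w d from ⟨u, v, hu, hv, hdv⟩)
      rw [hw'] at hw
      obtain ⟨x, hx, y, hy, rfl⟩ := exists_factor P hw
      obtain ⟨a, ha, c, hc, rfl⟩ := exists_factor P hx
      obtain ⟨b₁, hb₁, b₂, hb₂, rfl⟩ := (mem_cell_cls P (n := rep d)).1 (by rwa [hrep d])
      refine (DoubleCoset.eq _ _ _ _).2 ⟨a * b₁, mul_mem (mem_parabolic_of_mem_cell P hu' ha) (Subgroup.mem_sup_left hb₁),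
        b₂ * y, mul_mem (Subgroup.mem_sup_left hb₂) (mem_parabolic_of_mem_cell P hv' hy), by group⟩

open Classical in
theorem altChar_inner_self [Fintype G] [Fintype P.S] {d₀ : Weyl P} (hd₀ : IsLong P d₀) :
    classInner (altChar P) (altChar P) = 1 := by
  have : Fintype (Weyl P) := Fintype.ofFinite _
  have hsum : ∀ J K : Finset P.S, classInner (fixedPointCharacter (P.parabolic (lset P J)))
      (fixedPointCharacter (P.parabolic (lset P K))) =
        ∑ d : Weyl P, (if ∀ s ∈ J, len P d < len P (σ P s * d) then (1:ℂ) else 0) *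
          (if ∀ s ∈ K, len P d < len P (d * σ P s) then 1 else 0) := by
    intro J K
    rw [CfsgLib.GLFlags.classInner_fix, card_dblCosets P (lset_subset P J) (lset_subset P K),
      Nat.card_eq_fintype_card, Fintype.card_subtype]
    simp only [ite_zero_mul_ite_zero, mul_one, ← Finset.sum_filter, Finset.sum_const, nsmul_eq_mul]
    congr 2
    refine Finset.filter_congr fun d _ => and_congr ?_ ?_
    · exact ⟨fun h s hs => h s ((mem_lset P).2 hs), fun h s hs => h s ((mem_lset P).1 hs)⟩
    · exact ⟨fun h s hs => h s ((mem_lset P).2 hs), fun h s hs => h s ((mem_lset P).1 hs)⟩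
  have e : altChar P = ∑ K : Finset P.S, (-1 : ℂ) ^ K.card • fixedPointCharacter (P.parabolic (lset P K)) := by
    funext g; simp [altChar, Finset.sum_apply]
  rw [e, CfsgLib.CharTheory.classInner_sum_left]
  simp only [CfsgLib.CharTheory.classInner_sum_right, CfsgLib.CharTheory.classInner_smul_left,
    CfsgLib.CharTheory.classInner_smul_right, map_pow, map_neg, map_one, hsum, Finset.mul_sum]
  calc _ = ∑ d : Weyl P, (∑ J : Finset P.S, if ∀ s ∈ J, len P d < len P (σ P s * d) then (-1:ℂ) ^ J.card else 0) *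
        (∑ K : Finset P.S, if ∀ s ∈ K, len P d < len P (d * σ P s) then (-1:ℂ) ^ K.card else 0) := by
        simp only [Finset.sum_mul_sum]
        conv_rhs => rw [Finset.sum_comm]
        refine Finset.sum_congr rfl fun J _ => ?_
        conv_rhs => rw [Finset.sum_comm]
        refine Finset.sum_congr rfl fun K _ => ?_
        refine Finset.sum_congr rfl fun d _ => ?_
        split_ifs <;> ring
    _ = 1 := by
      simp only [sum_sign_min]
      rw [Finset.sum_eq_single d₀]
      · rw [if_pos fun s => (hd₀.left P s).le.not_gt, if_pos fun s => (hd₀ s).le.not_gt, mul_one]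
      · intro d _ hd
        rw [if_neg (c := ∀ s, ¬ len P d < len P (d * σ P s)), mul_zero]
        intro h
        exact hd (IsLong.unique P (fun s => by rcases len_mul_σ_cases P d s with e | e <;> [exact absurd (by omega) (h s); omega]) hd₀)
      · simp

theorem isGenChar_altChar [Fintype G] [Fintype P.S] : IsGeneralizedCharacter G (altChar P) := by
  have e : altChar P = ∑ K : Finset P.S, ((((-1 : ℤ) ^ K.card) : ℤ) : ℂ) • fixedPointCharacter (P.parabolic (lset P K)) := by
    funext g; simp [altChar, Finset.sum_apply]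
  rw [e]
  exact CfsgLib.CharTheory.isGenChar_sum _ _ fun K _ => CfsgLib.CharTheory.isGenChar_intSmul _
    (CfsgLib.CharTheory.isGenChar_of_char (CfsgLib.GLFlags.isCharacter_fix _))

open Classical in
theorem fix_parabolic [Finite G] [Fintype (Weyl P)] {K : Set G} (hK : K ⊆ P.S) {b : G} (hb : b ∈ P.B) :
    Nat.card (MulAction.fixedBy (G ⧸ P.parabolic K) b) =
      ∑ d : Weyl P, if RMin P K d then Nat.card {x : G ⧸ P.B // b • x = x ∧ x.out ∈ cell P d} else 0 := by
  rw [← Finset.sum_filter, ← Finset.sum_coe_sort (Finset.univ.filter fun d => RMin P K d),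
    ← Nat.card_sigma]
  have hle : P.B ≤ P.parabolic K := le_sup_left
  symm
  refine Nat.card_congr (Equiv.ofBijective (fun z => ⟨Subgroup.quotientMapOfLE hle z.2.1, ?_⟩) ⟨?_, ?_⟩)
  · have h := z.2.2.1
    obtain ⟨g, hg⟩ := QuotientGroup.mk_surjective (z.2.1 : G ⧸ P.B)
    rw [← hg] at h ⊢
    rw [MulAction.mem_fixedBy]
    show ((b * g : G) : G ⧸ P.parabolic K) = (g : G ⧸ P.parabolic K)
    rw [QuotientGroup.eq]
    exact hle (QuotientGroup.eq.1 h)
  · rintro ⟨⟨d, hd⟩, x, hx, hxd⟩ ⟨⟨d', hd'⟩, x', hx', hxd'⟩ e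
    simp only [Finset.mem_filter, Finset.mem_univ, true_and] at hd hd'
    have e' := congrArg Subtype.val e
    simp only at e'
    rw [← QuotientGroup.out_eq' x, ← QuotientGroup.out_eq' x'] at e'
    change ((x.out : G) : G ⧸ P.parabolic K) = (x'.out : G ⧸ P.parabolic K) at e'
    rw [QuotientGroup.eq] at e'
    obtain ⟨r, hr, hxr⟩ := (mem_parabolic_iff P hK).1 e'
    have h := mul_mem_cell_add P (len_add P hd hr) hxd hxr
    rw [mul_inv_cancel_left] at h
    have e2 := cell_unique P hxd' h
    have hdd : d = d' := min_unique P (J := (∅ : Set G)) ⟨1, r, inJ_one P _, hr, by rw [one_mul]; exact e2⟩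
      (fun s hs => absurd hs (Set.notMem_empty _)) hd (fun s hs => absurd hs (Set.notMem_empty _)) hd'
    subst hdd
    have hr1 : r = 1 := mul_eq_left.1 e2.symm
    subst hr1
    rw [cell_one] at hxr
    have hxx : x = x' := by
      rw [← QuotientGroup.out_eq' x, ← QuotientGroup.out_eq' x', QuotientGroup.eq]; exact hxr
    subst hxx
    rfl
  · rintro ⟨y, hy⟩
    obtain ⟨g, rfl⟩ := QuotientGroup.mk_surjective y
    obtain ⟨w, hw⟩ := bruhat P g
    obtain ⟨d, hd0, hmin⟩ := exists_shortest P (∅ : Set G) K w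
    have hd := (shortest_min P (J := (∅ : Set G)) (K := K) (d := d) fun z hz => hmin z (hd0.trans P hz)).2
    obtain ⟨u, v, hu, hv, he⟩ := hd0.symm P
    rw [inJ_empty P hu, one_mul] at he
    subst he
    obtain ⟨x, hx, p, hp, rfl⟩ := exists_factor P hw
    obtain ⟨c, hc, e⟩ : ∃ c ∈ P.B, ((x : G ⧸ P.B)).out = x * c := by
      refine ⟨x⁻¹ * ((x : G ⧸ P.B)).out, QuotientGroup.eq.1 (QuotientGroup.out_eq' _).symm, by group⟩
    have hxd : ((x : G ⧸ P.B)).out ∈ cell P d := by rw [e]; exact cell_mul_B P hc hx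
    have hxy : ((x * p : G) : G ⧸ P.parabolic K) = (x : G ⧸ P.parabolic K) :=
      QuotientGroup.mk_mul_of_mem _ (mem_parabolic_of_mem_cell P hv hp)
    rw [MulAction.mem_fixedBy, hxy] at hy
    change ((b * x : G) : G ⧸ P.parabolic K) = (x : G ⧸ P.parabolic K) at hy
    rw [QuotientGroup.eq] at hy
    have hfix : b • (x : G ⧸ P.B) = (x : G ⧸ P.B) := by
      show ((b * x : G) : G ⧸ P.B) = (x : G ⧸ P.B)
      rw [QuotientGroup.eq]
      obtain ⟨r, hr, hxr⟩ := (mem_parabolic_iff P hK).1 hy
      have hbx : b * x ∈ cell P d := B_mul_cell P hb hx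
      have h := mul_mem_cell_add P (len_add P hd hr) hbx hxr
      rw [mul_inv_cancel_left] at h
      rw [mul_eq_left.1 (cell_unique P hx h).symm, cell_one] at hxr
      exact hxr
    exact ⟨⟨⟨d, by simp [hd]⟩, _, hfix, hxd⟩, Subtype.ext hxy.symm⟩

theorem card_fix_cell [Finite G] {b : G} (hb : b ∈ P.B) (n : P.N) :
    Nat.card {x : G ⧸ P.B // b • x = x ∧ x.out ∈ cell P (cls P n)} =
      Nat.card (MulAction.fixedBy (P.B ⧸ (P.B.comap (MulAut.conj (n : G)⁻¹).toMonoidHom).subgroupOf P.B)
        (⟨b, hb⟩ : P.B)) := by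
  symm
  let H := (P.B.comap (MulAut.conj (n : G)⁻¹).toMonoidHom).subgroupOf P.B
  have hmem : ∀ a c : P.B, a⁻¹ * c ∈ H ↔ ((a : G) * n)⁻¹ * ((c : G) * n) ∈ P.B := by
    intro a c
    rw [Subgroup.mem_subgroupOf, Subgroup.mem_comap]
    have : (MulAut.conj (n : G)⁻¹).toMonoidHom ((a⁻¹ * c : P.B) : G) = ((a : G) * n)⁻¹ * ((c : G) * n) := by
      simp [MulAut.conj_apply, mul_assoc]
    rw [this]
  let f : P.B ⧸ H → G ⧸ P.B := Quotient.map' (fun a : P.B => (a : G) * (n : G)) fun a c h => by
    rw [QuotientGroup.leftRel_apply] at h ⊢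
    exact (hmem a c).1 h
  have hf : Function.Injective f := by
    intro a c
    induction a using QuotientGroup.induction_on with | H a => ?_
    induction c using QuotientGroup.induction_on with | H c => ?_
    intro h
    exact QuotientGroup.eq.2 ((hmem a c).2 (QuotientGroup.eq.1 h))
  have hsm : ∀ z, f ((⟨b, hb⟩ : P.B) • z) = b • f z := by
    intro z
    induction z using QuotientGroup.induction_on with | H z => ?_
    show (((((⟨b, hb⟩ * z : P.B) : G) * (n : G)) : G) : G ⧸ P.B) = ((b * ((z : G) * (n : G)) : G) : G ⧸ P.B)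
    rw [Subgroup.coe_mul, mul_assoc]
  refine Nat.card_congr (Equiv.ofBijective (fun z => ⟨f z.1, ?_, ?_⟩) ⟨?_, ?_⟩)
  · rw [← hsm, z.2]
  · obtain ⟨a, ha⟩ := QuotientGroup.mk_surjective z.1
    rw [← ha]
    show (((a : G) * n : G) : G ⧸ P.B).out ∈ _
    obtain ⟨c, hc⟩ : ∃ c : P.B, (((a : G) * n : G) : G ⧸ P.B).out = (a : G) * n * c :=
      QuotientGroup.mk_out_eq_mul P.B _
    rw [hc]
    exact cell_mul_B P c.2 (B_mul_cell P a.2 (self_mem_cell P n))
  · intro z z' h
    exact Subtype.ext (hf (congrArg Subtype.val h))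
  · rintro ⟨x, hx, hxc⟩
    obtain ⟨a, ha, c, hc, e⟩ := (mem_cell_cls P).1 hxc
    have hfa : f ((⟨a, ha⟩ : P.B) : P.B ⧸ H) = x := by
      rw [← QuotientGroup.out_eq' x, e]
      exact (QuotientGroup.mk_mul_of_mem _ hc).symm
    refine ⟨⟨((⟨a, ha⟩ : P.B) : P.B ⧸ H), hf ?_⟩, Subtype.ext hfa⟩
    rw [hsm, hfa]; exact hx

open Classical in
/-- The alternating sum restricted to `B`. -/
theorem altChar_restrict [Finite G] [Fintype P.S] {n : P.N} (hn : IsLong P (cls P n)) {b : G} (hb : b ∈ P.B) :
    altChar P b = fixedPointCharacter ((P.B.comap (MulAut.conj (n : G)⁻¹).toMonoidHom).subgroupOf P.B) ⟨b, hb⟩ := by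
  have : Fintype (Weyl P) := Fintype.ofFinite _
  unfold altChar fixedPointCharacter
  simp only [fix_parabolic P (lset_subset P _) hb, Nat.cast_sum, Finset.mul_sum]
  rw [Finset.sum_comm]
  have key : ∀ d : Weyl P, ∑ K : Finset P.S, (-1 : ℂ) ^ K.card * ((if RMin P (lset P K) d then
      Nat.card {x : G ⧸ P.B // b • x = x ∧ x.out ∈ cell P d} else 0 : ℕ) : ℂ) =
      if ∀ s, ¬ len P d < len P (d * σ P s) then (Nat.card {x : G ⧸ P.B // b • x = x ∧ x.out ∈ cell P d} : ℂ) else 0 := by
    intro d
    rw [← mul_one (Nat.card {x : G ⧸ P.B // b • x = x ∧ x.out ∈ cell P d} : ℂ), ← mul_ite_zero,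
      ← sum_sign_min, Finset.mul_sum]
    refine Finset.sum_congr rfl fun K _ => ?_
    have hiff : RMin P (lset P K) d ↔ ∀ s ∈ K, len P d < len P (d * σ P s) :=
      ⟨fun h s hs => h s ((mem_lset P).2 hs), fun h s hs => h s ((mem_lset P).1 hs)⟩
    simp only [hiff]
    split_ifs <;> push_cast <;> ring
  simp only [key]
  rw [Finset.sum_eq_single (cls P n)]
  · rw [if_pos fun s => (hn s).le.not_gt, card_fix_cell P hb n]
  · intro d _ hd
    rw [if_neg]
    intro h
    exact hd (IsLong.unique P (fun s => by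
      have := h s
      rcases len_mul_σ_cases P d s with e | e <;> omega) hn)
  · simp

end CfsgLib.BN
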