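/-
Alternating sums inside a parabolic subgroup: the recursion for counting elements of a given kind.
-/
import Cfsg.Agent.Lib.BN.Alternating
import Mathlib.Data.Fintype.Powerset

namespace CfsgLib.BN

open Cfsg

variable {G : Type*} [Group G] (P : Cfsg.BNPair G)

/-- The longest element of a standard subgroup of the Weyl group. -/
def IsLongIn (J : Set G) (d : Weyl P) : Prop :=
  InJ P J d ∧ ∀ s : P.S, (s : G) ∈ J → len P (d * σ P s) < len P d

theorem IsLongIn.len_mul {J : Set G} {d : Weyl P} (hd : IsLongIn P J d) {u : Weyl P} (hu : InJ P J u) :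
    len P (d * u) + len P u = len P d := by
  obtain ⟨l, hl, hred, rfl⟩ := InJ.reduced P hu
  clear hu
  induction l with
  | nil => rw [wd_nil, mul_one, len_one, add_zero]
  | cons s t ih =>
    have hlt' := Red.tail P hred
    have hk : len P (wd P (s :: t)) = t.length + 1 := hred
    have hk' : len P (wd P t) = t.length := hlt'
    have h1 := ih (fun x hx => hl x (List.mem_cons_of_mem _ hx)) hlt'
    obtain ⟨a, ha, hae⟩ := exists_reduced P (d * wd P t)
    have hwd : wd P (a ++ t.reverse) = d := by rw [wd_append, hae, wd_reverse, mul_inv_cancel_right]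
    have hrev : wd P (t ++ a.reverse) = d⁻¹ := by
      rw [show t ++ a.reverse = (a ++ t.reverse).reverse by simp, wd_reverse, hwd]
    have hr : Red P (t ++ a.reverse) := by
      simp only [Red, hrev, len_inv, List.length_append, List.length_reverse]
      omega
    have hlt : len P (σ P s * wd P (t ++ a.reverse)) < (t ++ a.reverse).length := by
      have e : σ P s * d⁻¹ = (d * σ P s)⁻¹ := by
        rw [mul_inv_rev, inv_eq_of_mul_eq_one_right (σ_mul_self P s)]
      rw [hrev, e, len_inv]
      have := hd.2 s (hl s List.mem_cons_self)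
      have : len P (wd P (t ++ a.reverse)) = len P d := by rw [hrev, len_inv]
      simp only [Red] at hr
      omega
    obtain ⟨i, hi, he⟩ := exchange P s hr hlt
    rw [wd_append] at he
    have hlb : len P d ≤ len P (d * wd P (s :: t)) + (t.length + 1) := by
      have := len_mul_le P (d * wd P (s :: t)) (wd P (s :: t))⁻¹
      rw [mul_inv_cancel_right, len_inv, hk] at this
      exact this
    by_cases hic : i < t.length
    · exfalso
      rw [List.eraseIdx_append_of_lt_length hic, wd_append, ← mul_assoc] at he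
      have h2 := mul_right_cancel he
      have h3 := len_le P (t.eraseIdx i)
      rw [← h2, List.length_eraseIdx_of_lt hic, ← wd_cons, hk] at h3
      omega
    · rw [List.eraseIdx_append_of_length_le (not_lt.1 hic), wd_append] at he
      set a'' := a.reverse.eraseIdx (i - t.length) with ha''
      have e : d * wd P (s :: t) = (wd P a'')⁻¹ := by
        have hd' : d = (wd P t * wd P a.reverse)⁻¹ := by
          rw [← wd_append, hrev, inv_inv]
        rw [eq_inv_iff_mul_eq_one, wd_cons, mul_assoc, mul_assoc, ← he, hd']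
        rw [σ_mul_σ_mul, inv_mul_cancel]
      have h3 := len_le P a''
      have h4 : a''.length = a.length - 1 := by
        rw [ha'', List.length_eraseIdx_of_lt, List.length_reverse]
        simp only [List.length_append, List.length_reverse] at hi hic ⊢
        omega
      have : 0 < a.length := by
        simp only [List.length_append, List.length_reverse] at hi hic
        omega
      rw [e, len_inv] at hlb
      rw [e, len_inv, hk]
      omega

theorem IsLongIn.unique {J : Set G} {d d' : Weyl P} (h : IsLongIn P J d) (h' : IsLongIn P J d') : d = d' := by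
  have h1 := h.len_mul P (InJ.mul P (InJ.inv P h.1) h'.1)
  have h2 := h'.len_mul P (InJ.mul P (InJ.inv P h'.1) h.1)
  rw [mul_inv_cancel_left] at h1 h2
  rw [show d'⁻¹ * d = (d⁻¹ * d')⁻¹ by group, len_inv] at h2
  exact inv_mul_eq_one.1 (len_eq_zero P (show len P (d⁻¹ * d') = 0 by omega))

theorem exists_isLongIn [Finite G] (J : Set G) : ∃ d, IsLongIn P J d := by
  classical
  have : Fintype (Weyl P) := Fintype.ofFinite _
  obtain ⟨d, hd, hmax⟩ := Finset.exists_max_image (Finset.univ.filter fun d => InJ P J d) (len P)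
    ⟨1, by simp [inJ_one P J]⟩
  simp only [Finset.mem_filter, Finset.mem_univ, true_and] at hd hmax
  refine ⟨d, hd, fun s hs => ?_⟩
  have := hmax _ (InJ.mul P hd (inJ_σ P hs))
  rcases len_mul_σ_cases P d s with e | e <;> omega

/-- The number of left cosets of `B` in a cell. -/
noncomputable def cellCard (q : Weyl P) : ℕ := Nat.card {x : G ⧸ P.B // x.out ∈ cell P q}

theorem out_eq_mul (H : Subgroup G) (g : G) : ∃ c ∈ H, ((g : G ⧸ H)).out = g * c := by
  obtain ⟨c, hc⟩ := QuotientGroup.mk_out_eq_mul H g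
  exact ⟨c, c.2, hc⟩

theorem mk_out_mem_cell {q : Weyl P} {g : G} (hg : g ∈ cell P q) :
    ((g : G ⧸ P.B)).out ∈ cell P q := by
  obtain ⟨c, hc, e⟩ := out_eq_mul P.B g
  rw [e]
  exact cell_mul_B P hc hg

theorem mk_mem_cell {q : Weyl P} {g : G} (hg : ((g : G ⧸ P.B)).out ∈ cell P q) : g ∈ cell P q := by
  obtain ⟨c, hc, e⟩ := out_eq_mul P.B g
  rw [e] at hg
  simpa using cell_mul_B P (P.B.inv_mem hc) hg

theorem cellCard_one : cellCard P 1 = 1 := by
  rw [cellCard, Nat.card_eq_one_iff_unique]
  refine ⟨⟨fun x y => Subtype.ext ?_⟩, ⟨⟨((1 : G) : G ⧸ P.B), mk_out_mem_cell P (by rw [cell_one]; exact P.B.one_mem)⟩⟩⟩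
  rw [← QuotientGroup.out_eq' x.1, ← QuotientGroup.out_eq' y.1, QuotientGroup.eq]
  have hx : (x.1).out ∈ P.B := (Set.ext_iff.1 (cell_one P) _).1 x.2
  have hy : (y.1).out ∈ P.B := (Set.ext_iff.1 (cell_one P) _).1 y.2
  exact P.B.mul_mem (P.B.inv_mem hx) hy

theorem factor_unique : ∀ {p q : Weyl P}, len P (p * q) = len P p + len P q →
    ∀ {x x' y y' : G}, x ∈ cell P p → x' ∈ cell P p → y ∈ cell P q → y' ∈ cell P q →
      (∃ b ∈ P.B, x * y = x' * y' * b) → x⁻¹ * x' ∈ P.B := by
  intro p
  obtain ⟨l, hl, rfl⟩ := exists_reduced P p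
  induction l with
  | nil =>
    intro q _ x x' y y' hx hx' _ _ _
    rw [wd_nil, cell_one] at hx hx'
    exact P.B.mul_mem (P.B.inv_mem hx) hx'
  | cons s t ih =>
    intro q h x x' y y' hx hx' hy hy' he
    obtain ⟨b, hb, he⟩ := he
    rw [wd_cons] at hx hx' h hl
    obtain ⟨u, hu, v, hv, rfl⟩ := exists_factor P hx
    obtain ⟨u', hu', v', hv', rfl⟩ := exists_factor P hx'
    have h1 := len_le P t
    have h2 := len_mul_le P (wd P t) q
    have h3 := len_σ_mul_le P s (wd P t * q)
    have h4 := len_σ_mul_le P s (wd P t)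
    simp only [List.length_cons, mul_assoc] at h hl
    have hadd : len P (wd P t * q) = len P (wd P t) + len P q := by omega
    have hty : v * y ∈ cell P (wd P t * q) := mul_mem_cell_add P hadd hv hy
    have hty' : v' * y' ∈ cell P (wd P t * q) := mul_mem_cell_add P hadd hv' hy'
    -- the ratio of the first factors lies in `B`
    have hinv : u⁻¹ ∈ cell P (σ P s) := by simpa using inv_mem_cell P hu
    have hb' : u⁻¹ * u' ∈ P.B := by
      rcases σ_mul_cell P s hinv hu' with hc | hc
      · rwa [σ_mul_self, cell_one] at hc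
      · exfalso
        have h5 : u⁻¹ * u' * (v' * y') ∈ cell P (σ P s * (wd P t * q)) :=
          σ_mul_cell_of_le P s (by omega) hc hty'
        have h6 : u⁻¹ * u' * (v' * y') ∈ cell P (wd P t * q) := by
          have e : u⁻¹ * u' * (v' * y') = v * y * b⁻¹ := by
            calc u⁻¹ * u' * (v' * y') = u⁻¹ * (u' * v' * y' * b) * b⁻¹ := by group
              _ = u⁻¹ * (u * v * y) * b⁻¹ := by rw [he]
              _ = _ := by group
          rw [e]
          exact cell_mul_B P (P.B.inv_mem hb) hty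
        exact σ_ne_one P s (mul_eq_right.1 (cell_unique P h5 h6))
    have h7 : v⁻¹ * (u⁻¹ * u' * v') ∈ P.B := by
      refine ih (by omega) hadd hv (B_mul_cell P hb' hv') hy hy' ⟨b, hb, ?_⟩
      calc v * y = u⁻¹ * (u * v * y) := by group
        _ = u⁻¹ * (u' * v' * y' * b) := by rw [he]
        _ = _ := by group
    simpa [mul_assoc] using h7

theorem cellCard_mul [Finite G] {p q : Weyl P} (h : len P (p * q) = len P p + len P q) :
    cellCard P (p * q) = cellCard P p * cellCard P q := by
  rw [cellCard, cellCard, cellCard, ← Nat.card_prod]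
  symm
  refine Nat.card_congr (Equiv.ofBijective (fun z => ⟨((z.1.1.out * z.2.1.out : G) : G ⧸ P.B),
    mk_out_mem_cell P (mul_mem_cell_add P h z.1.2 z.2.2)⟩) ⟨?_, ?_⟩)
  · rintro ⟨⟨a, ha⟩, ⟨c, hc⟩⟩ ⟨⟨a', ha'⟩, ⟨c', hc'⟩⟩ e
    have e' : ((a.out * c.out : G) : G ⧸ P.B) = ((a'.out * c'.out : G) : G ⧸ P.B) := congrArg Subtype.val e
    rw [QuotientGroup.eq] at e'
    have hab : a.out⁻¹ * a'.out ∈ P.B :=
      factor_unique P h ha ha' hc hc' ⟨_, P.B.inv_mem e', by group⟩
    have haa : a = a' := by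
      rw [← QuotientGroup.out_eq' a, ← QuotientGroup.out_eq' a', QuotientGroup.eq]; exact hab
    subst haa
    have hcc : c = c' := by
      rw [← QuotientGroup.out_eq' c, ← QuotientGroup.out_eq' c', QuotientGroup.eq]
      simpa [mul_assoc] using e'
    subst hcc
    rfl
  · rintro ⟨x, hx⟩
    obtain ⟨a, ha, c, hc, e⟩ := exists_factor P hx
    obtain ⟨β, hβ, ea⟩ := out_eq_mul P.B a
    refine ⟨(⟨(a : G ⧸ P.B), mk_out_mem_cell P ha⟩,
      ⟨((β⁻¹ * c : G) : G ⧸ P.B), mk_out_mem_cell P (B_mul_cell P (P.B.inv_mem hβ) hc)⟩), Subtype.ext ?_⟩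
    obtain ⟨γ, hγ, ec⟩ := out_eq_mul P.B (β⁻¹ * c)
    show (((a : G ⧸ P.B).out * ((β⁻¹ * c : G) : G ⧸ P.B).out : G) : G ⧸ P.B) = x
    rw [ea, ec]
    conv_rhs => rw [← QuotientGroup.out_eq' x, e]
    rw [QuotientGroup.eq]
    have e2 : (a * β * (β⁻¹ * c * γ))⁻¹ * (a * c) = γ⁻¹ := by group
    rw [e2]
    exact P.B.inv_mem hγ

open Classical in
/-- Fixed points inside a parabolic subgroup. -/
theorem fix_parabolic_in [Finite G] [Fintype (Weyl P)] {J K : Set G} (hJ : J ⊆ P.S) (hKJ : K ⊆ J) {b : G}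
    (hb : b ∈ P.B) :
    Nat.card {y : G ⧸ P.parabolic K // b • y = y ∧ y.out ∈ P.parabolic J} =
      ∑ d : Weyl P, if RMin P K d ∧ InJ P J d then
        Nat.card {x : G ⧸ P.B // b • x = x ∧ x.out ∈ cell P d} else 0 := by
  have hK : K ⊆ P.S := hKJ.trans hJ
  have hle : P.B ≤ P.parabolic K := le_sup_left
  have hKle : P.parabolic K ≤ P.parabolic J := sup_le_sup_left (Subgroup.closure_mono hKJ) _
  rw [← Finset.sum_filter, ← Finset.sum_coe_sort (Finset.univ.filter fun d => RMin P K d ∧ InJ P J d),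
    ← Nat.card_sigma]
  symm
  refine Nat.card_congr (Equiv.ofBijective
    (fun z => ⟨Subgroup.quotientMapOfLE hle z.2.1, ?_, ?_⟩) ⟨?_, ?_⟩)
  · have h := z.2.2.1
    obtain ⟨g, hg⟩ := QuotientGroup.mk_surjective (z.2.1 : G ⧸ P.B)
    rw [← hg] at h ⊢
    show ((b * g : G) : G ⧸ P.parabolic K) = (g : G ⧸ P.parabolic K)
    rw [QuotientGroup.eq]
    exact hle (QuotientGroup.eq.1 h)
  · have hd := (Finset.mem_filter.1 z.1.2).2.2
    rw [← QuotientGroup.out_eq' (z.2.1 : G ⧸ P.B)]
    show ((((z.2.1 : G ⧸ P.B)).out : G ⧸ P.parabolic K)).out ∈ _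
    obtain ⟨c, hc, e⟩ := out_eq_mul (P.parabolic K) ((z.2.1 : G ⧸ P.B)).out
    rw [e]
    exact mul_mem (mem_parabolic_of_mem_cell P hd z.2.2.2) (hKle hc)
  · rintro ⟨⟨d, hd⟩, x, hx, hxd⟩ ⟨⟨d', hd'⟩, x', hx', hxd'⟩ e
    simp only [Finset.mem_filter, Finset.mem_univ, true_and] at hd hd'
    have e' := congrArg Subtype.val e
    simp only at e'
    rw [← QuotientGroup.out_eq' x, ← QuotientGroup.out_eq' x'] at e'
    change ((x.out : G) : G ⧸ P.parabolic K) = (x'.out : G ⧸ P.parabolic K) at e'
    rw [QuotientGroup.eq] at e'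
    obtain ⟨r, hr, hxr⟩ := (mem_parabolic_iff P hK).1 e'
    have h := mul_mem_cell_add P (len_add P hd.1 hr) hxd hxr
    rw [mul_inv_cancel_left] at h
    have e2 := cell_unique P hxd' h
    have hdd : d = d' := min_unique P (J := (∅ : Set G)) ⟨1, r, inJ_one P _, hr, by rw [one_mul]; exact e2⟩
      (fun s hs => absurd hs (Set.notMem_empty _)) hd.1 (fun s hs => absurd hs (Set.notMem_empty _)) hd'.1
    subst hdd
    have hr1 : r = 1 := mul_eq_left.1 e2.symm
    subst hr1
    rw [cell_one] at hxr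
    have hxx : x = x' := by
      rw [← QuotientGroup.out_eq' x, ← QuotientGroup.out_eq' x', QuotientGroup.eq]; exact hxr
    subst hxx
    rfl
  · rintro ⟨y, hy, hyJ⟩
    obtain ⟨g, rfl⟩ := QuotientGroup.mk_surjective y
    have hgJ : g ∈ P.parabolic J := by
      obtain ⟨c, hc, e⟩ := out_eq_mul (P.parabolic K) g
      rw [e] at hyJ
      exact (Subgroup.mul_mem_cancel_right _ (hKle hc)).1 hyJ
    obtain ⟨w, hwJ, hw⟩ := (mem_parabolic_iff P hJ).1 hgJ
    obtain ⟨d, hd0, hmin⟩ := exists_shortest P (∅ : Set G) K w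
    have hd := (shortest_min P (J := (∅ : Set G)) (K := K) (d := d) fun z hz => hmin z (hd0.trans P hz)).2
    obtain ⟨u, v, hu, hv, he⟩ := hd0.symm P
    rw [inJ_empty P hu, one_mul] at he
    subst he
    have hdJ : InJ P J d := by
      obtain ⟨l, hl, e⟩ := hv
      have hvJ : InJ P J v := ⟨l, fun s hs => hKJ (hl s hs), e⟩
      simpa using InJ.mul P hwJ (InJ.inv P hvJ)
    obtain ⟨x, hx, p, hp, rfl⟩ := exists_factor P hw
    have hxy : ((x * p : G) : G ⧸ P.parabolic K) = (x : G ⧸ P.parabolic K) :=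
      QuotientGroup.mk_mul_of_mem _ (mem_parabolic_of_mem_cell P hv hp)
    rw [hxy] at hy
    change ((b * x : G) : G ⧸ P.parabolic K) = (x : G ⧸ P.parabolic K) at hy
    rw [QuotientGroup.eq] at hy
    have hfix : b • (x : G ⧸ P.B) = (x : G ⧸ P.B) := by
      show ((b * x : G) : G ⧸ P.B) = (x : G ⧸ P.B)
      rw [QuotientGroup.eq]
      obtain ⟨r, hr, hxr⟩ := (mem_parabolic_iff P hK).1 hy
      have hbx : b * x ∈ cell P d := B_mul_cell P hb hx
      have h := mul_mem_cell_add P (len_add P hd hr) hbx hxr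
      rw [mul_inv_cancel_left] at h
      rw [mul_eq_left.1 (cell_unique P hx h).symm, cell_one] at hxr
      exact hxr
    exact ⟨⟨⟨d, by simp [hd, hdJ]⟩, _, hfix, mk_out_mem_cell P hx⟩, Subtype.ext hxy.symm⟩

theorem lset_mono {J K : Finset P.S} (h : K ⊆ J) : lset P K ⊆ lset P J :=
  Set.image_mono (Finset.coe_subset.2 h)

/-- The index of a parabolic subgroup in a larger one, as a count of cosets. -/
noncomputable def pIndex (J K : Set G) : ℕ := Nat.card {y : G ⧸ P.parabolic K // y.out ∈ P.parabolic J}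

open Classical in
theorem pIndex_eq [Finite G] [Fintype (Weyl P)] {J K : Set G} (hJ : J ⊆ P.S) (hKJ : K ⊆ J) :
    pIndex P J K = ∑ d : Weyl P, if RMin P K d ∧ InJ P J d then cellCard P d else 0 := by
  have h := fix_parabolic_in P hJ hKJ P.B.one_mem
  simp only [one_smul, true_and] at h
  exact h

open Classical in
theorem sum_sign_subset {α : Type*} (J : Finset α) (Q : α → Prop) [DecidablePred Q] :
    ∑ K ∈ J.powerset, (if ∀ s ∈ K, Q s then (-1 : ℤ) ^ K.card else 0) =
      if ∀ s ∈ J, ¬ Q s then 1 else 0 := by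
  rw [← Finset.sum_filter]
  have e : (J.powerset.filter fun K => ∀ s ∈ K, Q s) = (J.filter Q).powerset := by
    ext K; simp [Finset.subset_iff]; grind
  rw [e, Finset.sum_powerset_neg_one_pow_card]
  simp only [Finset.filter_eq_empty_iff]

/-- `c` picks the size of the longest cell of every standard subgroup. -/
def IsLongSize (c : Finset P.S → ℕ) : Prop :=
  ∀ K, ∃ w, IsLongIn P (lset P K) w ∧ cellCard P w = c K

open Classical in
theorem sum_index_long [Finite G] (J : Finset P.S) {c : Finset P.S → ℕ} (hc : IsLongSize P c) :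
    ∑ K ∈ J.powerset, (-1 : ℤ) ^ K.card * ((pIndex P (lset P J) (lset P K) : ℤ) * c K) = 1 := by
  have : Fintype (Weyl P) := Fintype.ofFinite _
  have key : ∀ K ∈ J.powerset, (pIndex P (lset P J) (lset P K) : ℤ) * c K =
      ∑ w : Weyl P, if InJ P (lset P J) w ∧ ∀ s ∈ K, len P (w * σ P s) < len P w then (cellCard P w : ℤ) else 0 := by
    intro K hK
    rw [Finset.mem_powerset] at hK
    obtain ⟨wK, hwK, hck⟩ := hc K
    have hKJ := lset_mono P hK
    rw [pIndex_eq P (lset_subset P J) hKJ, ← hck, Nat.cast_sum, Finset.sum_mul]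
    simp only [Nat.cast_ite, Nat.cast_zero, ite_mul, zero_mul, ← Finset.sum_filter]
    obtain ⟨l, hl, hle⟩ := hwK.1
    have hwKJ : InJ P (lset P J) wK := ⟨l, fun s hs => hKJ (hl s hs), hle⟩
    refine Finset.sum_bij' (fun d _ => d * wK) (fun w _ => w * wK⁻¹) ?_ ?_ ?_ ?_ ?_
    · intro d hd
      simp only [Finset.mem_filter, Finset.mem_univ, true_and] at hd ⊢
      refine ⟨InJ.mul P hd.2 hwKJ, fun s hs => ?_⟩
      have hs' := (mem_lset P).2 hs
      rw [mul_assoc, len_add P hd.1 (InJ.mul P hwK.1 (inJ_σ P hs')), len_add P hd.1 hwK.1]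
      have := hwK.2 s hs'
      omega
    · intro w hw
      simp only [Finset.mem_filter, Finset.mem_univ, true_and] at hw ⊢
      refine ⟨?_, InJ.mul P hw.1 (InJ.inv P hwKJ)⟩
      obtain ⟨d, hd0, hmin⟩ := exists_shortest P (∅ : Set G) (lset P K) w
      have hd := (shortest_min P (J := (∅ : Set G)) (K := lset P K) (d := d) fun z hz =>
        hmin z (hd0.trans P hz)).2
      obtain ⟨u, v, hu, hv, he⟩ := hd0.symm P
      rw [inJ_empty P hu, one_mul] at he
      subst he
      have hlong : IsLongIn P (lset P K) v := by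
        refine ⟨hv, fun s hs => ?_⟩
        have := hw.2 s ((mem_lset P).1 hs)
        rw [mul_assoc, len_add P hd (InJ.mul P hv (inJ_σ P hs)), len_add P hd hv] at this
        omega
      rw [hlong.unique P hwK, mul_inv_cancel_right]
      exact hd
    · intro d _; simp
    · intro w _; simp
    · intro d hd
      simp only [Finset.mem_filter, Finset.mem_univ, true_and] at hd
      rw [cellCard_mul P (len_add P hd.1 hwK.1), Nat.cast_mul]
  calc ∑ K ∈ J.powerset, (-1 : ℤ) ^ K.card * ((pIndex P (lset P J) (lset P K) : ℤ) * c K)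
      = ∑ w : Weyl P, ∑ K ∈ J.powerset, (if InJ P (lset P J) w then (cellCard P w : ℤ) else 0) *
          (if ∀ s ∈ K, len P (w * σ P s) < len P w then (-1 : ℤ) ^ K.card else 0) := by
        rw [Finset.sum_congr rfl fun K hK => by rw [key K hK]]
        simp only [Finset.mul_sum]
        rw [Finset.sum_comm]
        refine Finset.sum_congr rfl fun w _ => Finset.sum_congr rfl fun K _ => ?_
        split_ifs <;> first | ring1 | (exfalso; tauto)
    _ = ∑ w : Weyl P, (if InJ P (lset P J) w then (cellCard P w : ℤ) else 0) *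
          (if ∀ s ∈ J, ¬ len P (w * σ P s) < len P w then 1 else 0) := by
        refine Finset.sum_congr rfl fun w _ => ?_
        rw [← Finset.mul_sum, sum_sign_subset]
    _ = 1 := by
        rw [Finset.sum_eq_single 1]
        · rw [if_pos (inJ_one P _), if_pos fun s _ => by rw [one_mul, len_one]; omega, cellCard_one]
          simp
        · intro w _ hw
          by_cases h : InJ P (lset P J) w
          · rw [if_neg (c := ∀ s ∈ J, ¬ len P (w * σ P s) < len P w), mul_zero]
            intro hall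
            obtain ⟨l, hl, hred, rfl⟩ := InJ.reduced P h
            rcases List.eq_nil_or_concat l with rfl | ⟨t, s, rfl⟩
            · simp at hw
            · rw [List.concat_eq_append] at hred hall hl
              refine hall s ((mem_lset P).1 (hl s (by simp))) ?_
              have h2 : len P (wd P (t ++ [s])) = t.length + 1 := by simpa [Red] using hred
              have h3 := len_le P t
              rw [h2, wd_append, wd_cons, wd_nil, mul_one, mul_assoc, σ_mul_self, mul_one]
              omega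
          · rw [if_neg h, zero_mul]
        · simp

open Classical in
theorem altSum_restrict [Finite G] (J : Finset P.S) {w : Weyl P} (hw : IsLongIn P (lset P J) w) {b : G}
    (hb : b ∈ P.B) :
    ∑ K ∈ J.powerset, (-1 : ℤ) ^ K.card *
        (Nat.card {y : G ⧸ P.parabolic (lset P K) // b • y = y ∧ y.out ∈ P.parabolic (lset P J)} : ℤ) =
      Nat.card {x : G ⧸ P.B // b • x = x ∧ x.out ∈ cell P w} := by
  have : Fintype (Weyl P) := Fintype.ofFinite _
  calc _ = ∑ d : Weyl P, (if InJ P (lset P J) d then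
        (Nat.card {x : G ⧸ P.B // b • x = x ∧ x.out ∈ cell P d} : ℤ) else 0) *
        (if ∀ s ∈ J, ¬ len P d < len P (d * σ P s) then 1 else 0) := by
        rw [Finset.sum_congr rfl fun K hK => by
          rw [fix_parabolic_in P (lset_subset P J) (lset_mono P (Finset.mem_powerset.1 hK)) hb, Nat.cast_sum,
            Finset.mul_sum]]
        rw [Finset.sum_comm]
        refine Finset.sum_congr rfl fun d _ => ?_
        rw [← sum_sign_subset, Finset.mul_sum]
        refine Finset.sum_congr rfl fun K _ => ?_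
        have hiff : RMin P (lset P K) d ↔ ∀ s ∈ K, len P d < len P (d * σ P s) :=
          ⟨fun h s hs => h s ((mem_lset P).2 hs), fun h s hs => h s ((mem_lset P).1 hs)⟩
        simp only [hiff]
        split_ifs <;> first | (push_cast; ring1) | (exfalso; tauto)
    _ = _ := by
        rw [Finset.sum_eq_single w]
        · rw [if_pos hw.1, if_pos fun s hs => (hw.2 s ((mem_lset P).2 hs)).le.not_gt, mul_one]
        · intro d _ hd
          by_cases h : InJ P (lset P J) d
          · rw [if_neg (c := ∀ s ∈ J, ¬ len P d < len P (d * σ P s)), mul_zero]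
            intro hall
            refine hd (IsLongIn.unique P ⟨h, fun s hs => ?_⟩ hw)
            have := hall s ((mem_lset P).1 hs)
            rcases len_mul_σ_cases P d s with e | e <;> omega
          · rw [if_neg h, zero_mul]
        · simp

open Classical in
/-- Counting the elements with a conjugation invariant property in the parabolic subgroups. -/
theorem count_recursion [Finite G] (J : Finset P.S) (Q : G → Prop) (hQ : ∀ g x, Q x → Q (g * x * g⁻¹))
    {w : Weyl P} (hw : IsLongIn P (lset P J) w) (R : Subgroup G) (hRB : R ≤ P.B) (hRQ : ∀ x ∈ R, Q x)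
    (hRn : ∀ y ∈ P.parabolic (lset P J), ∀ x ∈ R, y * x * y⁻¹ ∈ R)
    (hconj : ∀ x ∈ P.parabolic (lset P J), Q x → ∃ y ∈ P.parabolic (lset P J), y * x * y⁻¹ ∈ P.B)
    (hsupp : ∀ b ∈ P.B, Q b → ∀ x : G, x ∈ cell P w → x⁻¹ * b * x ∈ P.B → b ∈ R) :
    ∑ K ∈ J.powerset, (-1 : ℤ) ^ K.card * ((pIndex P (lset P J) (lset P K) : ℤ) *
        Nat.card {x : G // x ∈ P.parabolic (lset P K) ∧ Q x}) = Nat.card R * cellCard P w := by
  have : Fintype G := Fintype.ofFinite G
  set PJ := P.parabolic (lset P J) with hPJ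
  let T : Finset G := Finset.univ.filter fun x => x ∈ PJ ∧ Q x
  have hswap : ∀ K ∈ J.powerset, (pIndex P (lset P J) (lset P K) : ℤ) *
      Nat.card {x : G // x ∈ P.parabolic (lset P K) ∧ Q x} =
      ∑ x ∈ T, (Nat.card {y : G ⧸ P.parabolic (lset P K) // x • y = y ∧ y.out ∈ PJ} : ℤ) := by
    intro K hK
    have hKle : P.parabolic (lset P K) ≤ PJ :=
      sup_le_sup_left (Subgroup.closure_mono (lset_mono P (Finset.mem_powerset.1 hK))) _
    rw [← Nat.cast_sum, ← Nat.cast_mul, Nat.cast_inj, pIndex, ← Nat.card_prod,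
      ← Finset.sum_coe_sort T, ← Nat.card_sigma]
    refine Nat.card_congr
      { toFun := fun z => ⟨⟨z.1.1.out * z.2.1 * z.1.1.out⁻¹, ?_⟩, z.1.1, ?_, z.1.2⟩
        invFun := fun z => (⟨z.2.1, z.2.2.2⟩, ⟨z.2.1.out⁻¹ * z.1.1 * z.2.1.out, ?_, ?_⟩)
        left_inv := fun z => ?_
        right_inv := fun z => ?_ }
    · simp only [T, Finset.mem_filter, Finset.mem_univ, true_and]
      exact ⟨PJ.mul_mem (PJ.mul_mem z.1.2 (hKle z.2.2.1)) (PJ.inv_mem z.1.2), hQ _ _ z.2.2.2⟩
    · conv_lhs => arg 2; rw [← QuotientGroup.out_eq' z.1.1]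
      conv_rhs => rw [← QuotientGroup.out_eq' z.1.1]
      show ((_ * _ : G) : G ⧸ P.parabolic (lset P K)) = _
      rw [QuotientGroup.eq]
      have h := (P.parabolic (lset P K)).inv_mem z.2.2.1
      simpa [mul_assoc] using h
    · have h := z.2.2.1
      rw [← QuotientGroup.out_eq' z.2.1] at h
      change ((_ * _ : G) : G ⧸ P.parabolic (lset P K)) = _ at h
      rw [QuotientGroup.eq] at h
      have h' := (P.parabolic (lset P K)).inv_mem h
      simpa [mul_assoc] using h'
    · have hq := (Finset.mem_filter.1 z.1.2).2.2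
      have := hQ z.2.1.out⁻¹ _ hq
      simpa using this
    · refine Prod.ext rfl (Subtype.ext ?_)
      show z.1.1.out⁻¹ * (z.1.1.out * z.2.1 * z.1.1.out⁻¹) * z.1.1.out = z.2.1
      group
    · obtain ⟨⟨x, hx⟩, y, hy1, hy2⟩ := z
      have e : y.out * (y.out⁻¹ * x * y.out) * y.out⁻¹ = x := by group
      exact Sigma.subtype_ext (Subtype.ext e) rfl
  rw [Finset.sum_congr rfl fun K hK => by rw [hswap K hK, Finset.mul_sum], Finset.sum_comm]
  -- the alternating sum at one element
  have hval : ∀ x ∈ T, ∑ K ∈ J.powerset, (-1 : ℤ) ^ K.card *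
      (Nat.card {y : G ⧸ P.parabolic (lset P K) // x • y = y ∧ y.out ∈ PJ} : ℤ) =
      if x ∈ R then (cellCard P w : ℤ) else 0 := by
    intro x hx
    simp only [T, Finset.mem_filter, Finset.mem_univ, true_and] at hx
    obtain ⟨y, hy, hyb⟩ := hconj x hx.1 hx.2
    set b := y * x * y⁻¹ with hb
    have hconj' : ∀ K ∈ J.powerset, Nat.card {z : G ⧸ P.parabolic (lset P K) // x • z = z ∧ z.out ∈ PJ} =
        Nat.card {z : G ⧸ P.parabolic (lset P K) // b • z = z ∧ z.out ∈ PJ} := by
      intro K hK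
      have hKle : P.parabolic (lset P K) ≤ PJ :=
        sup_le_sup_left (Subgroup.closure_mono (lset_mono P (Finset.mem_powerset.1 hK))) _
      have hout : ∀ (g : G) (z : G ⧸ P.parabolic (lset P K)), g ∈ PJ → z.out ∈ PJ → (g • z).out ∈ PJ := by
        intro g z hg hz
        conv => arg 2; arg 1; rw [← QuotientGroup.out_eq' z]
        obtain ⟨c, hc, e⟩ := out_eq_mul (P.parabolic (lset P K)) (g * z.out)
        show (((g * z.out : G) : G ⧸ P.parabolic (lset P K))).out ∈ PJ
        rw [e]
        exact PJ.mul_mem (PJ.mul_mem hg hz) (hKle hc)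
      refine Nat.card_congr
        { toFun := fun z => ⟨y • z.1, ?_, hout y z.1 hy z.2.2⟩
          invFun := fun z => ⟨y⁻¹ • z.1, ?_, hout y⁻¹ z.1 (PJ.inv_mem hy) z.2.2⟩
          left_inv := fun z => Subtype.ext (inv_smul_smul y z.1)
          right_inv := fun z => Subtype.ext (smul_inv_smul y z.1) }
      · show (y * x * y⁻¹) • y • z.1 = y • z.1
        rw [mul_smul, mul_smul, inv_smul_smul, z.2.1]
      · have h : (y * x * y⁻¹) • z.1 = z.1 := z.2.1
        rw [mul_smul, mul_smul] at h
        calc x • y⁻¹ • z.1 = y⁻¹ • y • x • y⁻¹ • z.1 := (inv_smul_smul y _).symm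
          _ = _ := by rw [h]
    rw [Finset.sum_congr rfl fun K hK => by rw [hconj' K hK], altSum_restrict P J hw hyb]
    split_ifs with hR
    · have hbR : b ∈ R := hRn y hy x hR
      rw [Nat.cast_inj, cellCard]
      refine Nat.card_congr (Equiv.subtypeEquivRight fun z => ⟨fun h => h.2, fun h => ⟨?_, h⟩⟩)
      have hzJ : z.out ∈ PJ := mem_parabolic_of_mem_cell P hw.1 h
      conv_lhs => arg 2; rw [← QuotientGroup.out_eq' z]
      conv_rhs => rw [← QuotientGroup.out_eq' z]
      show ((_ * _ : G) : G ⧸ P.B) = _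
      rw [QuotientGroup.eq]
      have := hRB (hRn _ (PJ.inv_mem hzJ) b⁻¹ (R.inv_mem hbR))
      simpa [mul_assoc] using this
    · rw [Nat.cast_eq_zero, Nat.card_eq_zero]
      refine Or.inl ⟨fun z => hR ?_⟩
      have h := z.2.1
      rw [← QuotientGroup.out_eq' z.1] at h
      change ((_ * _ : G) : G ⧸ P.B) = _ at h
      rw [QuotientGroup.eq] at h
      have hbR : b ∈ R := by
        refine hsupp b hyb (hQ _ _ hx.2) _ z.2.2 ?_
        have h' := P.B.inv_mem h
        simpa [mul_assoc] using h'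
      have := hRn y⁻¹ (PJ.inv_mem hy) b hbR
      simpa [hb, mul_assoc] using this
  rw [Finset.sum_congr rfl hval, ← Finset.sum_filter, Finset.sum_const, nsmul_eq_mul]
  congr 2
  rw [← Nat.card_eq_finsetCard]
  refine Nat.card_congr (Equiv.subtypeEquivRight fun x => ?_)
  simp only [T, Finset.mem_filter, Finset.mem_univ, true_and]
  exact ⟨fun h => h.2, fun h => ⟨⟨Subgroup.mem_sup_left (hRB h), hRQ x h⟩, h⟩⟩

end CfsgLib.BN
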