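/-
The alternating sum averaged over the unipotent radical of a parabolic subgroup, at an element of
that parabolic subgroup which lies in no smaller one up to conjugation.
-/
import Cfsg.Agent.Lib.BN.Parabolic
import Mathlib.GroupTheory.GroupAction.Quotient

set_option autoImplicit false

namespace CfsgLib.BN

open Cfsg

variable {G : Type*} [Group G] (P : Cfsg.BNPair G)

theorem len_inv_mul_σ (d : Weyl P) (s : P.S) : len P (d⁻¹ * σ P s) = len P (σ P s * d) := by
  rw [← len_inv P (σ P s * d), mul_inv_rev, σ_inv]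

theorem len_add_left {J : Set G} {d r : Weyl P} (hd : LMin P J d) (hr : InJ P J r) :
    len P (r * d) = len P r + len P d := by
  have h : RMin P J d⁻¹ := fun s hs => by rw [len_inv_mul_σ, len_inv]; exact hd s hs
  have := len_add P h (InJ.inv P hr)
  rw [← mul_inv_rev, len_inv, len_inv, len_inv] at this
  omega

theorem exists_σ_of_len_one {x : Weyl P} (h : len P x = 1) : ∃ s, x = σ P s := by
  obtain ⟨s, p, rfl, hp⟩ := exists_cons P (q := x) (by omega)
  exact ⟨s, by rw [len_eq_zero P (show len P p = 0 by omega), mul_one]⟩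

theorem letter_of_inJ {J : Set G} {s : P.S} (h : InJ P J (σ P s)) : (s : G) ∈ J := by
  obtain ⟨l, hl, hred, he⟩ := InJ.reduced P h
  have h1 : l.length = 1 := by
    have := len_σ P s
    rw [← he, hred] at this
    exact this
  obtain ⟨t, rfl⟩ := List.length_eq_one_iff.1 h1
  rw [wd_cons, wd_nil, mul_one] at he
  rw [← σ_injective P he]
  exact hl t (List.mem_singleton.2 rfl)

/-- The letters of `K` carried by `d` to letters of `J`. -/
noncomputable def linkSet (K J : Finset P.S) (d : Weyl P) : Finset P.S := by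
  classical exact K.filter fun s => ∃ t ∈ J, σ P s * d = d * σ P t

theorem mem_linkSet {K J : Finset P.S} {d : Weyl P} {s : P.S} :
    s ∈ linkSet P K J d ↔ s ∈ K ∧ ∃ t ∈ J, σ P s * d = d * σ P t := by
  classical simp [linkSet]

/-- An element of `W_K ∩ d W_J d⁻¹` lies in the subgroup of the linked letters. -/
theorem inJ_linkSet {K J : Finset P.S} {d : Weyl P} (hK : LMin P (lset P K) d)
    (hJ : RMin P (lset P J) d) {a b : Weyl P} (ha : InJ P (lset P K) a) (hb : InJ P (lset P J) b)
    (h : a * d = d * b) : InJ P (lset P (linkSet P K J d)) a := by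
  obtain ⟨l, hl, hred, rfl⟩ := InJ.reduced P ha
  clear ha
  induction l generalizing b with
  | nil => exact ⟨[], by simp, rfl⟩
  | cons s t ih =>
    have htail := Red.tail P hred
    have hla : len P (wd P (s :: t)) = t.length + 1 := hred
    have hlt : len P (wd P t) = t.length := htail
    have hK' : (wd P (s :: t)) = σ P s * wd P t := wd_cons P s t
    have h1 := len_add_left P hK (r := wd P (s :: t)) ⟨_, hl, rfl⟩
    have h2 := len_add_left P hK (r := wd P t) ⟨t, fun x hx => hl x (List.mem_cons_of_mem _ hx), rfl⟩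
    have h3 := len_add P hJ hb
    obtain ⟨lb, hlb, hbred, rfl⟩ := InJ.reduced P hb
    obtain ⟨ld, hld, rfl⟩ := exists_reduced P d
    have hb' : len P (wd P lb) = lb.length := hbred
    have hr : Red P (ld ++ lb) := by
      simp only [Red, wd_append, List.length_append]
      omega
    have e0 : σ P s * wd P (ld ++ lb) = wd P t * wd P ld := by
      rw [wd_append, ← h, hK', mul_assoc, σ_mul_σ_mul]
    have hshort : len P (σ P s * wd P (ld ++ lb)) < (ld ++ lb).length := by
      rw [e0, h2, List.length_append]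
      rw [h] at h1
      omega
    obtain ⟨i, hi, e⟩ := exchange P s hr hshort
    by_cases hil : i < ld.length
    · exfalso
      rw [List.eraseIdx_append_of_lt_length hil, wd_append, wd_append, ← mul_assoc] at e
      have e' := mul_right_cancel e
      have := hK s (hl s List.mem_cons_self)
      have h4 := len_le P (ld.eraseIdx i)
      rw [← e', List.length_eraseIdx_of_lt hil] at h4
      omega
    · rw [List.eraseIdx_append_of_length_le (not_lt.1 hil), wd_append, wd_append, ← mul_assoc] at e
      set lb' := lb.eraseIdx (i - ld.length) with hlb'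
      have hb'J : InJ P (lset P J) (wd P lb') := ⟨lb', fun x hx => hlb x (List.eraseIdx_subset hx), rfl⟩
      have e1 : σ P s * wd P ld = wd P ld * (wd P lb' * (wd P lb)⁻¹) := by
        rw [eq_comm, ← mul_assoc, mul_inv_eq_iff_eq_mul]
        exact e.symm
      have hc : InJ P (lset P J) (wd P lb' * (wd P lb)⁻¹) :=
        InJ.mul P hb'J (InJ.inv P ⟨lb, hlb, rfl⟩)
      have h5 := len_add P hJ hc
      rw [← e1] at h5
      have h6 : len P (σ P s * wd P ld) = len P (wd P ld) + 1 := by
        rcases len_σ_mul_cases P s (wd P ld) with q | q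
        · exact q
        · have := hK s (hl s List.mem_cons_self); omega
      obtain ⟨r, hr'⟩ := exists_σ_of_len_one P (x := wd P lb' * (wd P lb)⁻¹) (by omega)
      rw [hr'] at hc e1
      have hs : s ∈ linkSet P K J (wd P ld) :=
        (mem_linkSet P).2 ⟨(mem_lset P).1 (hl s List.mem_cons_self), r,
          (mem_lset P).1 (letter_of_inJ P hc), e1⟩
      have ht := ih (b := wd P lb') hb'J (fun x hx => hl x (List.mem_cons_of_mem _ hx)) htail (by
        rw [← e0, wd_append, ← mul_assoc]; exact e)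
      rw [hK']
      exact InJ.mul P (inJ_σ P ((mem_lset P).2 hs)) ht

section fixed

variable [Finite G]

/-- The double cosets contributing at an elliptic element. -/
def GoodD (K J : Finset P.S) (d : Weyl P) : Prop :=
  LMin P (lset P K) d ∧ RMin P (lset P J) d ∧ ∀ s ∈ K, ∃ t ∈ J, σ P s * d = d * σ P t

open scoped Pointwise in
open Classical in
/-- The fixed points of the coset `g U` on the cosets of a parabolic subgroup. -/
theorem sum_fix_coset {K J : Finset P.S} {U : Subgroup G} [Fintype ↥U] (hUB : U ≤ P.B)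
    (hUn : P.parabolic (lset P K) ≤ Subgroup.normalizer (U : Set G))
    (hsplit : ∀ n : P.N, LMin P (lset P K) (cls P n) → ∀ b ∈ P.B,
      ∃ u ∈ U, (n : G)⁻¹ * (u⁻¹ * b) * n ∈ P.B)
    {g : G} (hg : g ∈ P.parabolic (lset P K))
    (hell : ∀ K' : Finset P.S, K' ⊂ K → ∀ a ∈ P.parabolic (lset P K),
      a⁻¹ * g * a ∉ P.parabolic (lset P K')) :
    ∑ u : ↥U, Nat.card (MulAction.fixedBy (G ⧸ P.parabolic (lset P J)) (g * (u : G))) =
      Nat.card ↥U * Nat.card {d : Weyl P // GoodD P K J d} := by
  have : Fintype G := Fintype.ofFinite G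
  have : Fintype (Weyl P) := Fintype.ofFinite _
  choose rep hrep using cls_surjective P
  set H := P.parabolic (lset P J) with hH
  let f : G ⧸ H → ℕ := fun x => (Finset.univ.filter fun u : ↥U => (g * (u : G)) • x = x).card
  have hsum : ∑ u : ↥U, Nat.card (MulAction.fixedBy (G ⧸ H) (g * (u : G))) = ∑ x, f x := by
    simp only [f, Finset.card_filter]
    rw [Finset.sum_comm]
    refine Finset.sum_congr rfl fun u _ => ?_
    rw [← Finset.card_filter, Nat.card_eq_fintype_card, ← Set.toFinset_card]
    congr 1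
    ext x
    simp
  rw [hsum]
  let orb : Weyl P → Finset (G ⧸ H) := fun d =>
    (MulAction.orbit ↥U (((rep d : G) : G ⧸ H))).toFinset
  have hcellrep : ∀ d, (rep d : G) ∈ cell P d := fun d => by
    have h0 := self_mem_cell P (rep d); rwa [hrep d] at h0
  -- the parabolic subgroup moves a good coset only inside its orbit
  have horbit : ∀ d, GoodD P K J d → ∀ a ∈ P.parabolic (lset P K),
      (((a * rep d : G)) : G ⧸ H) ∈ MulAction.orbit ↥U (((rep d : G) : G ⧸ H)) := by
    intro d hd a ha
    set S := (P.parabolic (lset P K)) ⊓ MulAction.stabilizer G (((rep d : G) : G ⧸ H)) with hS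
    have hstab : ∀ x : G, x ∈ MulAction.stabilizer G (((rep d : G) : G ⧸ H)) ↔
        (rep d : G)⁻¹ * x * rep d ∈ H := by
      intro x
      rw [MulAction.mem_stabilizer_iff]
      show (((x * rep d : G)) : G ⧸ H) = _ ↔ _
      rw [eq_comm, QuotientGroup.eq, mul_assoc]
    have hle : P.parabolic (lset P K) ≤ U ⊔ S := by
      refine sup_le (fun b hb => ?_) ((Subgroup.closure_le _).2 ?_)
      · obtain ⟨u, hu, hub⟩ := hsplit (rep d) (by rw [hrep d]; exact hd.1) b hb
        rw [show b = u * (u⁻¹ * b) by group]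
        refine Subgroup.mul_mem_sup hu (Subgroup.mem_inf.2 ⟨mul_mem (inv_mem ?_) ?_, ?_⟩)
        · exact Subgroup.mem_sup_left (hUB hu)
        · exact Subgroup.mem_sup_left hb
        · exact (hstab _).2 (Subgroup.mem_sup_left hub)
      · rintro _ ⟨s, hs, rfl⟩
        refine Subgroup.mem_sup_right (Subgroup.mem_inf.2
          ⟨Subgroup.mem_sup_right (Subgroup.subset_closure ⟨s, hs, rfl⟩), (hstab _).2 ?_⟩)
        obtain ⟨t, ht, e⟩ := hd.2.2 s hs
        rw [← hrep d] at e
        have e2 : cls P (⟨s.1, P.subset s.2⟩ * rep d) = cls P (rep d * ⟨t.1, P.subset t.2⟩) := e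
        rw [cls_eq_iff] at e2
        rw [show (rep d : G)⁻¹ * s.1 * rep d =
            t.1 * (((⟨s.1, P.subset s.2⟩ * rep d : P.N) : G)⁻¹ * ((rep d * ⟨t.1, P.subset t.2⟩ : P.N) : G))⁻¹ by
          simp [mul_assoc]]
        exact mul_mem (Subgroup.mem_sup_right (Subgroup.subset_closure ⟨t, ht, rfl⟩))
          (inv_mem (Subgroup.mem_sup_left e2))
    have hn : S ≤ Subgroup.normalizer (U : Set G) := inf_le_left.trans hUn
    have h := hle ha
    rw [← SetLike.mem_coe, Subgroup.coe_mul_of_right_le_normalizer_left _ _ hn] at h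
    obtain ⟨u, hu, x, hx, rfl⟩ := h
    refine ⟨⟨u, hu⟩, ?_⟩
    have hx2 : x • (((rep d : G) : G ⧸ H)) = ((rep d : G) : G ⧸ H) := MulAction.mem_stabilizer_iff.1 hx.2
    show (u : G) • (((rep d : G) : G ⧸ H)) = _
    conv_lhs => rw [← hx2]
    rw [← mul_smul]
    rfl
  -- a fixed point lies in a good orbit
  have hpos : ∀ x, f x ≠ 0 → ∃ d, GoodD P K J d ∧ x ∈ orb d := by
    intro x hx
    obtain ⟨u, hu⟩ := Finset.card_ne_zero.1 hx
    simp only [Finset.mem_filter, Finset.mem_univ, true_and] at hu
    obtain ⟨y, rfl⟩ := QuotientGroup.mk_surjective x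
    obtain ⟨w, hw⟩ := bruhat P y
    obtain ⟨d, hwd, hmin⟩ := exists_shortest P (lset P K) (lset P J) w
    obtain ⟨hdK, hdJ⟩ := shortest_min P (J := lset P K) (K := lset P J) (d := d)
      fun z hz => hmin z (hwd.trans P hz)
    obtain ⟨r, r', hr, hr', rfl⟩ := hwd.symm P
    obtain ⟨x₁, hx₁, c, hc, rfl⟩ := exists_factor P hw
    obtain ⟨a, ha, m, hm, rfl⟩ := exists_factor P hx₁
    obtain ⟨b₁, hb₁, b₂, hb₂, rfl⟩ := (mem_cell_cls P (n := rep d)).1 (by rwa [hrep d])
    have haK : a * b₁ ∈ P.parabolic (lset P K) :=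
      mul_mem (mem_parabolic_of_mem_cell P hr ha) (Subgroup.mem_sup_left hb₁)
    have hcJ : b₂ * c ∈ H := mul_mem (Subgroup.mem_sup_left hb₂) (mem_parabolic_of_mem_cell P hr' hc)
    set a' := a * b₁ with ha'
    have hx' : (((a * (b₁ * (rep d : G) * b₂) * c : G)) : G ⧸ H) = ((a' * rep d : G) : G ⧸ H) := by
      rw [show a * (b₁ * (rep d : G) * b₂) * c = a' * rep d * (b₂ * c) by rw [ha']; group]
      exact QuotientGroup.mk_mul_of_mem _ hcJ
    rw [hx'] at hu ⊢
    set z := a'⁻¹ * (g * (u : G)) * a' with hz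
    have huK : (u : G) ∈ P.parabolic (lset P K) := Subgroup.mem_sup_left (hUB u.2)
    have hzK : z ∈ P.parabolic (lset P K) := mul_mem (mul_mem (inv_mem haK) (mul_mem hg huK)) haK
    have hzJ : (rep d : G)⁻¹ * z * rep d ∈ H := by
      have h' : ((g * (u : G) * (a' * rep d) : G) : G ⧸ H) = ((a' * rep d : G) : G ⧸ H) := hu
      rw [eq_comm, QuotientGroup.eq] at h'
      rw [hz]
      simpa [mul_assoc] using h'
    obtain ⟨p, hp, hzp⟩ := (mem_parabolic_iff P (lset_subset P K)).1 hzK
    obtain ⟨q, hq, hzq⟩ := (mem_parabolic_iff P (lset_subset P J)).1 hzJ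
    have e1 := mul_mem_cell_add P (len_add_left P hdK hp) hzp (hcellrep d)
    have e2 := mul_mem_cell_add P (len_add P hdJ hq) (hcellrep d) hzq
    rw [show (rep d : G) * ((rep d : G)⁻¹ * z * rep d) = z * rep d by group] at e2
    have hlink := inJ_linkSet P hdK hdJ hp hq (cell_unique P e1 e2)
    have hall : linkSet P K J d = K := by
      by_contra hne
      have hss : linkSet P K J d ⊂ K :=
        Finset.ssubset_iff_subset_ne.2 ⟨fun s hs => ((mem_linkSet P).1 hs).1, hne⟩
      refine hell _ hss a' haK ?_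
      have h1 : z ∈ P.parabolic (lset P (linkSet P K J d)) := mem_parabolic_of_mem_cell P hlink hzp
      have h2 : a'⁻¹ * (u : G) * a' ∈ P.parabolic (lset P (linkSet P K J d)) :=
        Subgroup.mem_sup_left (hUB ((Subgroup.mem_normalizer_iff''.1 (hUn haK) _).1 u.2))
      rw [show a'⁻¹ * g * a' = z * (a'⁻¹ * (u : G) * a')⁻¹ by rw [hz]; group]
      exact mul_mem h1 (inv_mem h2)
    have hgood : GoodD P K J d := ⟨hdK, hdJ, fun s hs => ((mem_linkSet P).1 (hall.ge hs)).2⟩
    exact ⟨d, hgood, Set.mem_toFinset.2 (horbit d hgood a' haK)⟩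
  -- the orbits are disjoint
  have hdisj : ∀ d d', GoodD P K J d → GoodD P K J d' → ∀ x, x ∈ orb d → x ∈ orb d' → d = d' := by
    intro d d' hd hd' x hx hx'
    simp only [orb, Set.mem_toFinset] at hx hx'
    obtain ⟨v, hv⟩ := hx
    obtain ⟨v', hv'⟩ := hx'
    have e : ((((v : G) * rep d : G)) : G ⧸ H) = ((((v' : G) * rep d' : G)) : G ⧸ H) := hv.trans hv'.symm
    rw [QuotientGroup.eq] at e
    obtain ⟨r, hr, her⟩ := (mem_parabolic_iff P (lset_subset P J)).1 e
    have h1 := mul_mem_cell_add P (len_add P hd.2.1 hr) (B_mul_cell P (hUB v.2) (hcellrep d)) her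
    rw [mul_inv_cancel_left] at h1
    have e2 := cell_unique P (B_mul_cell P (hUB v'.2) (hcellrep d')) h1
    exact min_unique P (J := lset P K) (K := lset P J)
      ⟨1, r, inJ_one P _, hr, by rw [one_mul]; exact e2⟩ hd.1 hd.2.1 hd'.1 hd'.2.1
  have hf : ∀ d, GoodD P K J d → ∀ x ∈ orb d, f x * (orb d).card = Nat.card ↥U := by
    intro d hd x hx
    simp only [orb, Set.mem_toFinset] at hx
    obtain ⟨v, rfl⟩ := hx
    set x₀ := (((rep d : G) : G ⧸ H)) with hx₀
    have hgi : g⁻¹ • ((v : ↥U) • x₀) ∈ MulAction.orbit ↥U x₀ := by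
      show g⁻¹ • ((((v : G) * rep d : G)) : G ⧸ H) ∈ _
      rw [show g⁻¹ • ((((v : G) * rep d : G)) : G ⧸ H) = (((g⁻¹ * (v : G)) * rep d : G) : G ⧸ H) by
        rw [mul_assoc]; rfl]
      exact horbit d hd _ (mul_mem (inv_mem hg) (Subgroup.mem_sup_left (hUB v.2)))
    obtain ⟨w, hw⟩ := hgi
    simp only at hw
    -- the solutions form a coset of the stabiliser
    have hfs : f (v • x₀) = Nat.card (MulAction.stabilizer ↥U (v • x₀)) := by
      rw [Nat.card_eq_fintype_card, Fintype.card_subtype]
      simp only [f]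
      set u₀ : ↥U := w * v⁻¹ with hu₀
      have hu₀x : u₀ • (v • x₀) = g⁻¹ • (v • x₀) := by
        rw [hu₀, smul_smul, inv_mul_cancel_right, hw]
      refine Finset.card_bij' (fun u _ => u₀⁻¹ * u) (fun u _ => u₀ * u) ?_ ?_ ?_ ?_
      · intro u hu
        simp only [Finset.mem_filter, Finset.mem_univ, true_and, MulAction.mem_stabilizer_iff] at hu ⊢
        have h1 : u • (v • x₀) = g⁻¹ • (v • x₀) := by
          rw [eq_inv_smul_iff]
          rw [mul_smul] at hu
          exact hu
        rw [mul_smul, h1, ← hu₀x, inv_smul_smul]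
      · intro u hu
        simp only [Finset.mem_filter, Finset.mem_univ, true_and, MulAction.mem_stabilizer_iff] at hu ⊢
        rw [mul_smul]
        show g • ((u₀ * u : ↥U) • (v • x₀)) = v • x₀
        rw [mul_smul, hu, hu₀x, smul_inv_smul]
      · intro u _; simp
      · intro u _; simp
    rw [hfs]
    have h := MulAction.card_orbit_mul_card_stabilizer_eq_card_group ↥U (v • x₀)
    simp only [MulAction.orbit_smul] at h
    rw [Nat.card_eq_fintype_card, Nat.card_eq_fintype_card, mul_comm]
    simp only [orb, Set.toFinset_card]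
    rw [← h]
  set Dset := Finset.univ.filter fun d => GoodD P K J d with hDset
  have hpd : (↑Dset : Set (Weyl P)).PairwiseDisjoint orb := by
    intro d hd d' hd' hne
    simp only [hDset, Finset.coe_filter, Finset.mem_univ, true_and, Set.mem_setOf_eq] at hd hd'
    exact Finset.disjoint_left.2 fun x hx hx' => hne (hdisj d d' hd hd' x hx hx')
  have e : ∑ x, f x = ∑ x ∈ Dset.biUnion orb, f x := by
    refine (Finset.sum_subset (Finset.subset_univ _) fun x _ hx => ?_).symm
    by_contra hne
    obtain ⟨d, hd, hxd⟩ := hpos x hne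
    exact hx (Finset.mem_biUnion.2 ⟨d, by simp [hDset, hd], hxd⟩)
  rw [e, Finset.sum_biUnion hpd, Nat.card_eq_fintype_card (α := {d // GoodD P K J d}), Fintype.card_subtype,
    ← hDset, mul_comm, ← smul_eq_mul, ← Finset.sum_const]
  refine Finset.sum_congr rfl fun d hd => ?_
  simp only [hDset, Finset.mem_filter, Finset.mem_univ, true_and] at hd
  have hne : (orb d).Nonempty := ⟨((rep d : G) : G ⧸ H), Set.mem_toFinset.2 (MulAction.mem_orbit_self _)⟩
  have hpos' : 0 < (orb d).card := Finset.card_pos.2 hne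
  refine Nat.eq_of_mul_eq_mul_right hpos' ?_
  rw [Finset.sum_mul, Finset.sum_congr rfl (fun x hx => hf d hd x hx), Finset.sum_const, smul_eq_mul,
    mul_comm]

end fixed

section signs

variable [Finite G]

/-- The one double coset all of whose ascents are linked to `K`. -/
theorem exists_unique_linked {K : Finset P.S} {d₀ : Weyl P} (hd₀ : IsLong P d₀) :
    ∃ d, LMin P (lset P K) d ∧ (∀ s ∈ K, ∃ t, σ P s * d = d * σ P t) ∧
      (∀ t, len P d < len P (d * σ P t) → ∃ s ∈ K, σ P s * d = d * σ P t) ∧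
      ∀ d', LMin P (lset P K) d' → (∀ t, len P d' < len P (d' * σ P t) → ∃ s ∈ K, σ P s * d' = d' * σ P t) →
        d' = d := by
  obtain ⟨u, hu⟩ := exists_isLongIn P (lset P K)
  have huinv : u⁻¹ = u := by
    refine IsLongIn.unique P ⟨InJ.inv P hu.1, fun s hs => ?_⟩ hu
    have h := hu.len_mul P (InJ.mul P (InJ.inv P hu.1) (inJ_σ P hs))
    rw [mul_inv_cancel_left, len_σ] at h
    rw [len_inv]
    omega
  have huu : u * u = 1 := by
    nth_rewrite 1 [← huinv]
    exact inv_mul_cancel u
  have hw0 : d₀⁻¹ = d₀ := by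
    refine IsLong.unique P (fun t => ?_) hd₀
    have h1 := hd₀.len_mul P (d₀⁻¹ * σ P t)
    rw [mul_inv_cancel_left, len_σ] at h1
    rw [len_inv]
    omega
  have hlt : ∀ v, len P (v * d₀) + len P v = len P d₀ := by
    intro v
    have := hd₀.len_mul P v⁻¹
    rw [len_inv, show d₀ * v⁻¹ = (v * d₀)⁻¹ by rw [mul_inv_rev, hw0], len_inv] at this
    exact this
  -- conjugation by the long element of `W_K` permutes the letters
  have hconjK : ∀ s ∈ K, ∃ k ∈ K, u * σ P s * u = σ P k := by
    intro s hs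
    have hsu : InJ P (lset P K) (σ P s * u) := InJ.mul P (inJ_σ P ((mem_lset P).2 hs)) hu.1
    have h1 := hu.len_mul P hsu
    have h2 : len P (σ P s * u) + 1 = len P u := by
      have h3 := hu.len_mul P (inJ_σ P ((mem_lset P).2 hs))
      rw [← len_inv P (u * σ P s), mul_inv_rev, σ_inv, huinv, len_σ] at h3
      exact h3
    obtain ⟨k, hk⟩ := exists_σ_of_len_one P (x := u * σ P s * u) (by rw [mul_assoc]; omega)
    refine ⟨k, (mem_lset P).1 (letter_of_inJ P ?_), hk⟩
    rw [← hk, mul_assoc]
    exact InJ.mul P hu.1 hsu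
  -- conjugation by the long element permutes the letters
  have hconj : ∀ s : P.S, ∃ t, d₀ * σ P s * d₀ = σ P t := by
    intro s
    have h1 := hd₀.len_mul P (σ P s * d₀)
    have h2 := hlt (σ P s)
    rw [len_σ] at h2
    exact exists_σ_of_len_one P (by rw [mul_assoc]; omega)
  have hd₀sq : d₀ * d₀ = 1 := by
    nth_rewrite 1 [← hw0]
    exact inv_mul_cancel d₀
  set d := u * d₀ with hd
  have hlen : len P d + len P u = len P d₀ := hlt u
  refine ⟨d, fun s hs => ?_, fun s hs => ?_, fun t ht => ?_, ?_⟩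
  · have h1 := hlt (σ P s * u)
    have h3 := hu.2 s hs
    rw [← len_inv P (u * σ P s), mul_inv_rev, σ_inv, huinv] at h3
    rw [hd] at hlen
    rw [hd, ← mul_assoc]
    omega
  · obtain ⟨k, -, hk⟩ := hconjK s hs
    obtain ⟨t, ht⟩ := hconj k
    refine ⟨t, ?_⟩
    calc σ P s * d = (u * u) * σ P s * u * d₀ := by rw [huu, one_mul, hd, mul_assoc]
      _ = u * (d₀ * d₀) * σ P k * d₀ := by rw [hd₀sq, mul_one, ← hk]; group
      _ = d * σ P t := by rw [← ht, hd]; group
  · obtain ⟨t', ht'⟩ := hconj t
    have e : d * σ P t = u * σ P t' * d₀ := by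
      rw [← ht', hd]
      calc u * d₀ * σ P t = u * d₀ * σ P t * (d₀ * d₀) := by rw [hd₀sq, mul_one]
        _ = _ := by group
    have h1 := hlt (u * σ P t')
    rw [← e] at h1
    have h2 : len P (u * σ P t') < len P u := by omega
    have hmem : t' ∈ K := by
      obtain ⟨l, hl, hred, he⟩ := InJ.reduced P hu.1
      have hlu : len P (wd P l) = l.length := hred
      obtain ⟨i, hi, hex⟩ := exchange P t' hred (by
        rw [he, ← len_inv P (σ P t' * u), mul_inv_rev, σ_inv, huinv]
        rw [he] at hlu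
        omega)
      refine (mem_lset P).1 (letter_of_inJ P ?_)
      have : σ P t' = wd P (l.eraseIdx i) * u⁻¹ := by rw [← hex, he, mul_inv_cancel_right]
      rw [this]
      exact InJ.mul P ⟨_, fun x hx => hl x (List.eraseIdx_subset hx), rfl⟩ (InJ.inv P hu.1)
    obtain ⟨k, hk, hk'⟩ := hconjK t' hmem
    refine ⟨k, hk, ?_⟩
    rw [e, ← hk', hd]
    calc u * σ P t' * u * (u * d₀) = u * σ P t' * (u * u) * d₀ := by group
      _ = _ := by rw [huu, mul_one]
  · intro d' hd' hasc
    have hlong : IsLong P (u * d') := by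
      intro t
      rw [len_add_left P hd' hu.1, mul_assoc]
      rcases len_mul_σ_cases P d' t with h | h
      · obtain ⟨s, hs, e⟩ := hasc t (by omega)
        rw [← e, ← mul_assoc]
        have h1 := len_mul_le P (u * σ P s) d'
        have := hu.2 s ((mem_lset P).2 hs)
        omega
      · have := len_mul_le P u (d' * σ P t)
        omega
    rw [hd, ← IsLong.unique P hlong hd₀, ← mul_assoc, huu, one_mul]

open Classical in
/-- The averaged alternating sum at an elliptic element of a parabolic subgroup is a sign. -/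
theorem sum_altChar_coset [Fintype P.S] {K : Finset P.S} {U : Subgroup G} [Fintype ↥U] (hUB : U ≤ P.B)
    (hUn : P.parabolic (lset P K) ≤ Subgroup.normalizer (U : Set G))
    (hsplit : ∀ n : P.N, LMin P (lset P K) (cls P n) → ∀ b ∈ P.B,
      ∃ u ∈ U, (n : G)⁻¹ * (u⁻¹ * b) * n ∈ P.B)
    {g : G} (hg : g ∈ P.parabolic (lset P K))
    (hell : ∀ K' : Finset P.S, K' ⊂ K → ∀ a ∈ P.parabolic (lset P K),
      a⁻¹ * g * a ∉ P.parabolic (lset P K'))
    {d₀ : Weyl P} (hd₀ : IsLong P d₀) :
    ∑ u : ↥U, altChar P (g * (u : G)) = (Nat.card ↥U : ℂ) * (-1) ^ K.card := by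
  have : Fintype (Weyl P) := Fintype.ofFinite _
  unfold altChar fixedPointCharacter
  rw [Finset.sum_comm]
  simp only [← Finset.mul_sum, ← Nat.cast_sum, sum_fix_coset P hUB hUn hsplit hg hell, Nat.cast_mul,
    mul_left_comm ((-1 : ℂ) ^ (_ : ℕ)) (Nat.card ↥U : ℂ)]
  congr 1
  simp only [Nat.card_eq_fintype_card, Fintype.card_subtype, Finset.card_filter, Nat.cast_sum,
    Nat.cast_ite, Nat.cast_one, Nat.cast_zero, Finset.mul_sum, mul_ite, mul_one, mul_zero]
  rw [Finset.sum_comm]
  obtain ⟨d, hdK, hdall, hdasc, huniq⟩ := exists_unique_linked P (K := K) hd₀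
  have key : ∀ e : Weyl P, ∑ J : Finset P.S, (if GoodD P K J e then (-1 : ℂ) ^ J.card else 0) =
      if LMin P (lset P K) e ∧ (∀ s ∈ K, ∃ t, σ P s * e = e * σ P t) ∧
        (∀ t, len P e < len P (e * σ P t) → ∃ s ∈ K, σ P s * e = e * σ P t) then (-1) ^ K.card else 0 := by
    intro e
    by_cases h1 : LMin P (lset P K) e ∧ ∀ s ∈ K, ∃ t, σ P s * e = e * σ P t
    swap
    · rw [if_neg (fun h => h1 ⟨h.1, h.2.1⟩)]
      refine Finset.sum_eq_zero fun J _ => if_neg fun h => h1 ⟨h.1, fun s hs => ?_⟩
      obtain ⟨t, -, ht⟩ := h.2.2 s hs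
      exact ⟨t, ht⟩
    obtain ⟨hL, hlk⟩ := h1
    choose τ hτ using hlk
    set T := Finset.univ.filter fun t => ∃ s ∈ K, σ P s * e = e * σ P t with hT
    set A := Finset.univ.filter fun t => len P e < len P (e * σ P t) with hA
    have hTA : T ⊆ A := by
      intro t ht
      simp only [hT, hA, Finset.mem_filter, Finset.mem_univ, true_and] at ht ⊢
      obtain ⟨s, hs, hst⟩ := ht
      rw [← hst]
      exact hL s ((mem_lset P).2 hs)
    have hcard : T.card = K.card := by
      refine (Finset.card_bij (fun s hs => τ s hs) (fun s hs => ?_) (fun a ha b hb h => ?_) (fun t ht => ?_)).symm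
      · simp only [hT, Finset.mem_filter, Finset.mem_univ, true_and]
        exact ⟨s, hs, hτ s hs⟩
      · have h1 := hτ a ha
        rw [h, ← hτ b hb] at h1
        exact σ_injective P (mul_right_cancel h1)
      · simp only [hT, Finset.mem_filter, Finset.mem_univ, true_and] at ht
        obtain ⟨s, hs, hst⟩ := ht
        exact ⟨s, hs, σ_injective P (mul_left_cancel ((hτ s hs).symm.trans hst : e * σ P (τ s hs) = e * σ P t))⟩
    have hgood : ∀ J, GoodD P K J e ↔ T ⊆ J ∧ J ⊆ A := by
      intro J
      constructor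
      · rintro ⟨-, h2, h3⟩
        constructor
        · intro t ht
          simp only [hT, Finset.mem_filter, Finset.mem_univ, true_and] at ht
          obtain ⟨s, hs, hst⟩ := ht
          obtain ⟨t', ht', hst'⟩ := h3 s hs
          rw [hst] at hst'
          rwa [σ_injective P (mul_left_cancel hst' : σ P t = σ P t')]
        · intro t ht
          simp only [hA, Finset.mem_filter, Finset.mem_univ, true_and]
          exact h2 t ((mem_lset P).2 ht)
      · rintro ⟨h2, h3⟩
        refine ⟨hL, fun t ht => ?_, fun s hs => ⟨τ s hs, h2 ?_, hτ s hs⟩⟩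
        · have := h3 ((mem_lset P).1 ht)
          simpa [hA] using this
        · simp only [hT, Finset.mem_filter, Finset.mem_univ, true_and]
          exact ⟨s, hs, hτ s hs⟩
    simp only [hgood]
    rw [← Finset.sum_filter]
    have e1 : ∑ J ∈ Finset.univ.filter (fun J => T ⊆ J ∧ J ⊆ A), (-1 : ℂ) ^ J.card =
        (-1) ^ T.card * ∑ J ∈ (A \ T).powerset, (-1 : ℂ) ^ J.card := by
      rw [Finset.mul_sum]
      refine Finset.sum_nbij' (fun J => J \ T) (fun J => T ∪ J) ?_ ?_ ?_ ?_ ?_
      · intro J hJ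
        simp only [Finset.mem_coe, Finset.mem_filter, Finset.mem_univ, true_and,
          Finset.mem_powerset] at hJ ⊢
        exact Finset.sdiff_subset_sdiff hJ.2 le_rfl
      · intro J hJ
        simp only [Finset.mem_coe, Finset.mem_filter, Finset.mem_univ, true_and,
          Finset.mem_powerset] at hJ ⊢
        exact ⟨Finset.subset_union_left, Finset.union_subset hTA (hJ.trans Finset.sdiff_subset)⟩
      · intro J hJ
        simp only [Finset.mem_coe, Finset.mem_filter, Finset.mem_univ, true_and] at hJ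
        exact Finset.union_sdiff_of_subset hJ.1
      · intro J hJ
        simp only [Finset.mem_coe, Finset.mem_powerset] at hJ
        refine Finset.ext fun t => ?_
        simp only [Finset.mem_sdiff, Finset.mem_union]
        constructor
        · rintro ⟨h | h, hn⟩
          · exact absurd h hn
          · exact h
        · exact fun h => ⟨Or.inr h, (Finset.mem_sdiff.1 (hJ h)).2⟩
      · intro J hJ
        simp only [Finset.mem_filter, Finset.mem_univ, true_and] at hJ
        rw [← pow_add, Finset.card_sdiff_of_subset hJ.1, Nat.add_sub_cancel' (Finset.card_le_card hJ.1)]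
    rw [e1]
    have h0 := congrArg (Int.cast (R := ℂ)) (Finset.sum_powerset_neg_one_pow_card (x := A \ T))
    push_cast at h0
    rw [h0, hcard]
    have hAT : A \ T = ∅ ↔ ∀ t, len P e < len P (e * σ P t) → ∃ s ∈ K, σ P s * e = e * σ P t := by
      rw [Finset.sdiff_eq_empty_iff_subset]
      simp only [hA, hT, Finset.subset_iff, Finset.mem_filter, Finset.mem_univ, true_and]
    by_cases h2 : A \ T = ∅
    · rw [if_pos h2, if_pos ⟨hL, fun s hs => ⟨_, hτ s hs⟩, hAT.1 h2⟩, mul_one]
    · rw [if_neg h2, if_neg (fun h => h2 (hAT.2 h.2.2)), mul_zero]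
  simp only [key]
  rw [Finset.sum_eq_single d]
  · rw [if_pos ⟨hdK, hdall, hdasc⟩]
  · intro e _ he
    rw [if_neg]
    exact fun h => he (huniq e h.1 h.2.2)
  · simp

end signs

end CfsgLib.BN
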